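import Cfsg.Agent.GroupStructure3.FiveOrbits.TwoQ.Setup
import Cfsg.Agent.Lib.Coprime.FixedPointFree
import Cfsg.Agent.S1475

/-!
# The spectrum `{1, 2, q, r, 2q}`: the normalizer `S ⋊ (r : q)`
-/

set_option autoImplicit false

namespace Cfsg.Agent.GroupStructure3.FiveOrbits.TwoQ

open FiveOrders (conjS mem_conjS commute_of_sq)

universe u

variable {G : Type u} [Group G] [Finite G] {q r : ℕ} [Fact (Nat.Prime 2)]

/-- The situation: self-centralizing `S` whose normalizer contains the involution centralizers. -/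
structure Big (G : Type u) [Group G] (q r : ℕ) (S : Sylow 2 G) : Prop where
  ord : Orders G q r (2 * q)
  cent : Subgroup.centralizer ((S : Subgroup G) : Set G) = (S : Subgroup G)
  le : ∀ s ∈ (S : Subgroup G), s ≠ 1 →
    Subgroup.centralizer ({s} : Set G) ≤ Subgroup.normalizer ((S : Subgroup G) : Set G)
  ne_bot : (S : Subgroup G) ≠ ⊥

/-- The structure of `N(S)`. -/
structure Shape (G : Type u) [Group G] (q r : ℕ) (S : Sylow 2 G) (x y : G) : Prop where
  ox : orderOf x = r
  oy : orderOf y = q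
  xM : x ∈ Subgroup.normalizer ((S : Subgroup G) : Set G)
  yM : y ∈ Subgroup.normalizer ((S : Subgroup G) : Set G)
  norm : y * x * y⁻¹ ∈ Subgroup.zpowers x
  card : Nat.card ↥(Subgroup.normalizer ((S : Subgroup G) : Set G)) = Nat.card S * r * q
  conj : ∀ z ∈ Subgroup.normalizer ((S : Subgroup G) : Set G), orderOf z = q →
    ∃ s ∈ (S : Subgroup G), ∃ i j : ℕ, 1 ≤ j ∧ j < q ∧ z = s * x ^ i * y ^ j * (s * x ^ i)⁻¹

theorem Big.fpf {S : Sylow 2 G} (h : Big G q r S) {x s : G} (hx : orderOf x = r) (hs : s ∈ (S : Subgroup G))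
    (hc : Commute x s) : s = 1 := by
  by_contra hs1
  exact not_commute h.ord.hr Nat.prime_two h.ord.r2 (r_alone h.ord 2 Nat.prime_two h.ord.r2.symm) hx
    (orderOf_of_mem h.ord S hs hs1) hc

/-- An element of order `q` in the centralizer of a given involution of `S`. -/
theorem Big.exists_q {S : Sylow 2 G} (h : Big G q r S) {s : G} (hs : s ∈ (S : Subgroup G)) (hs1 : s ≠ 1) :
    ∃ y ∈ Subgroup.normalizer ((S : Subgroup G) : Set G), orderOf y = q ∧ Commute s y := by
  obtain ⟨y, hy, hc⟩ := exists_commute_q h.ord (orderOf_of_mem h.ord S hs hs1)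
  exact ⟨y, h.le s hs hs1 (Subgroup.mem_centralizer_singleton_iff.2 hc.symm.eq), hy, hc⟩

theorem Big.card_centralizer_eq' {S : Sylow 2 G} (h : Big G q r S) {s t : G} (hs : s ∈ (S : Subgroup G)) (hs1 : s ≠ 1)
    (ht : t ∈ (S : Subgroup G)) (ht1 : t ≠ 1) :
    Nat.card (Subgroup.centralizer ({s} : Set G)) = Nat.card (Subgroup.centralizer ({t} : Set G)) :=
  card_centralizer_eq h.ord ((orderOf_of_mem h.ord S hs hs1).trans (orderOf_of_mem h.ord S ht ht1).symm)

theorem Big.exists_ne {S : Sylow 2 G} (h : Big G q r S) : ∃ s ∈ (S : Subgroup G), s ≠ 1 :=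
  (Subgroup.bot_or_exists_ne_one _).resolve_left h.ne_bot

theorem Big.exists_r [IsSimpleGroup G] {S : Sylow 2 G} (h : Big G q r S) :
    ∃ x ∈ Subgroup.normalizer ((S : Subgroup G) : Set G), orderOf x = r := by
  classical
  by_contra hno
  push Not at hno
  set M := Subgroup.normalizer ((S : Subgroup G) : Set G) with hM
  haveI := Fact.mk h.ord.hq
  haveI := Fact.mk h.ord.hr
  have hrM : ¬ r ∣ Nat.card M := fun hd => by
    obtain ⟨⟨x, hxM⟩, hx⟩ := exists_prime_orderOf_dvd_card' r hd
    rw [Subgroup.orderOf_mk] at hx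
    exact hno x hxM hx
  obtain ⟨Q₁⟩ : Nonempty (Sylow q M) := inferInstance
  set S' := (S : Subgroup G).subgroupOf M with hS'
  haveI : S'.Normal := Subgroup.normal_subgroupOf_iff_le_normalizer Subgroup.le_normalizer |>.2 le_rfl
  -- `M = S Q₁`
  have htop : S' ⊔ (Q₁ : Subgroup M) = ⊤ := by
    refine Subgroup.eq_top_of_card_eq _ (Nat.dvd_antisymm (Subgroup.card_subgroup_dvd_card _) ?_)
    refine (Nat.factorization_le_iff_dvd Nat.card_pos.ne' Nat.card_pos.ne').1 fun p => ?_
    by_cases hp : p.Prime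
    swap
    · simp [Nat.factorization_eq_zero_of_not_prime _ hp]
    by_cases hd : p ∣ Nat.card M
    swap
    · simp [Nat.factorization_eq_zero_of_not_dvd hd]
    rcases h.ord.prime_cases (Nat.not_prime_mul (by norm_num) h.ord.hq.ne_one) hp
      (hd.trans (Subgroup.card_subgroup_dvd_card M)) with rfl | rfl | rfl
    · have h1 := S.card_eq_multiplicity
      have hle : Nat.card S' ∣ Nat.card ↥(S' ⊔ (Q₁ : Subgroup M)) := Subgroup.card_dvd_of_le le_sup_left
      rw [hS', Nat.card_congr (Subgroup.subgroupOfEquivOfLe Subgroup.le_normalizer).toEquiv] at hle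
      have h2 := (Nat.Prime.pow_dvd_iff_le_factorization Nat.prime_two Nat.card_pos.ne').1 (h1 ▸ hle)
      refine le_trans ?_ h2
      exact (Nat.factorization_le_iff_dvd Nat.card_pos.ne' Nat.card_pos.ne').2 (Subgroup.card_subgroup_dvd_card M) 2
    · have hle : Nat.card Q₁ ∣ Nat.card ↥(S' ⊔ (Q₁ : Subgroup M)) := Subgroup.card_dvd_of_le le_sup_right
      rw [Q₁.card_eq_multiplicity] at hle
      exact (Nat.Prime.pow_dvd_iff_le_factorization hp Nat.card_pos.ne').1 hle
    · exact absurd hd hrM
  have hmul : ∀ m : M, ∃ a ∈ S', ∃ g ∈ (Q₁ : Subgroup M), a * g = m := fun m => by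
    have hm : m ∈ S' ⊔ (Q₁ : Subgroup M) := htop ▸ Subgroup.mem_top m
    rw [← SetLike.mem_coe, Subgroup.normal_mul] at hm
    exact hm
  have hsq := sylow_sq h.ord S
  letI : CommGroup (S : Subgroup G) := { (inferInstance : Group (S : Subgroup G)) with
    mul_comm := fun a b => Subtype.ext (commute_of_sq hsq a.2 b.2).eq }
  let ψ : ↥(Q₁ : Subgroup M) →* MulAut (S : Subgroup G) :=
    (Subgroup.normalizerMonoidHom (S : Subgroup G)).comp (Q₁ : Subgroup M).subtype
  have hψ_apply : ∀ (g : (Q₁ : Subgroup M)) (s : (S : Subgroup G)),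
      ((ψ g s : (S : Subgroup G)) : G) = ((g : M) : G) * s * ((g : M) : G)⁻¹ := fun g s => rfl
  have hψ : Function.Injective ψ := by
    refine (injective_iff_map_eq_one ψ).2 fun g hg => ?_
    have hgC : ((g : M) : G) ∈ Subgroup.centralizer ((S : Subgroup G) : Set G) := by
      refine Subgroup.mem_centralizer_iff.2 fun s hs => ?_
      have := hψ_apply g ⟨s, hs⟩
      rw [hg] at this
      exact (eq_mul_inv_iff_mul_eq.1 this)
    rw [h.cent] at hgC
    obtain ⟨k, hk⟩ := IsPGroup.iff_orderOf.1 Q₁.2 g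
    have h1 : orderOf g ∣ 2 := by
      refine orderOf_dvd_of_pow_eq_one (Subtype.ext (Subtype.ext ?_))
      rw [pow_two]; exact hsq _ hgC
    rw [hk] at h1
    rcases k with _ | k
    · exact orderOf_eq_one_iff.1 (by rw [hk, pow_zero])
    · exact absurd ((Nat.prime_dvd_prime_iff_eq h.ord.hq Nat.prime_two).1 ((dvd_pow_self q k.succ_ne_zero).trans h1)) h.ord.q2
  haveI : Nontrivial (S : Subgroup G) := (Subgroup.nontrivial_iff_ne_bot _).2 h.ne_bot
  obtain ⟨w, hw⟩ := _root_.exists_ne (1 : (S : Subgroup G))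
  have hw1 : (w : G) ≠ 1 := fun e => hw (Subtype.ext e)
  -- stabilizers
  let st : ↥(S : Subgroup G) → Subgroup ↥(Q₁ : Subgroup M) := fun v =>
    (Subgroup.centralizer ({(v : G)} : Set G)).comap (M.subtype.comp (Q₁ : Subgroup M).subtype)
  have hst : ∀ v : (S : Subgroup G), v ≠ 1 →
      Nat.card (Subgroup.centralizer ({(v : G)} : Set G)) = Nat.card S * Nat.card (st v) := by
    intro v hv
    have hv1 : (v : G) ≠ 1 := fun e => hv (Subtype.ext e)
    rw [← Nat.card_prod]
    refine (Nat.card_congr (Equiv.ofBijective (fun p : ↥(S : Subgroup G) × st v =>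
      (⟨(p.1 : G) * ((p.2 : (Q₁ : Subgroup M)) : M), mul_mem (sylow_le_centralizer h.ord S v.2 p.1.2) p.2.2⟩ :
        Subgroup.centralizer ({(v : G)} : Set G))) ⟨?_, ?_⟩)).symm
    · rintro ⟨a, g⟩ ⟨b, k⟩ e
      have e' : (a : G) * (((g : (Q₁ : Subgroup M)) : M) : G) = (b : G) * (((k : (Q₁ : Subgroup M)) : M) : G) :=
        congrArg Subtype.val e
      have e2 : (b : G)⁻¹ * a = (((k : (Q₁ : Subgroup M)) : M) : G) * ((((g : (Q₁ : Subgroup M)) : M) : G))⁻¹ := by
        rw [eq_mul_inv_iff_mul_eq, mul_assoc, e', inv_mul_cancel_left]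
      obtain ⟨j, hj⟩ := IsPGroup.iff_orderOf.1 Q₁.2 ((k : (Q₁ : Subgroup M)) * (g : (Q₁ : Subgroup M))⁻¹)
      have hz : (b : G)⁻¹ * a = 1 := by
        have h2 : orderOf ((b : G)⁻¹ * a) ∣ 2 := orderOf_dvd_of_pow_eq_one
          (by rw [pow_two]; exact hsq _ (mul_mem (inv_mem b.2) a.2))
        have h3 : orderOf ((b : G)⁻¹ * a) = q ^ j := by
          rw [e2, ← hj, ← Subgroup.orderOf_coe, ← Subgroup.orderOf_coe]; rfl
        rw [h3] at h2
        rcases j with _ | j
        · exact orderOf_eq_one_iff.1 (by rw [h3, pow_zero])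
        · exact absurd ((Nat.prime_dvd_prime_iff_eq h.ord.hq Nat.prime_two).1 ((dvd_pow_self q j.succ_ne_zero).trans h2)) h.ord.q2
      have hab : (b : G) = a := inv_mul_eq_one.1 hz
      rw [hab] at e'
      exact Prod.ext (Subtype.ext hab.symm) (Subtype.ext (Subtype.ext (Subtype.ext (mul_left_cancel e'))))
    · rintro ⟨c, hc⟩
      obtain ⟨a, ha, g, hg, e⟩ := hmul ⟨c, h.le v v.2 hv1 hc⟩
      have e' : (a : G) * g = c := congrArg Subtype.val e
      have haS : (a : G) ∈ (S : Subgroup G) := Subgroup.mem_subgroupOf.1 ha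
      have hgC : (g : G) ∈ Subgroup.centralizer ({(v : G)} : Set G) := by
        rw [show (g : G) = (a : G)⁻¹ * c by rw [← e', inv_mul_cancel_left]]
        exact mul_mem (inv_mem (sylow_le_centralizer h.ord S v.2 haS)) hc
      exact ⟨(⟨a, haS⟩, ⟨⟨g, hg⟩, hgC⟩), Subtype.ext e'⟩
  have horb : ∀ v : (S : Subgroup G), Nat.card {u : (S : Subgroup G) | ∃ g, ψ g v = u} * Nat.card (st v) =
      Nat.card ↥(Q₁ : Subgroup M) := by
    intro v
    rw [← (st v).index_mul_card, Subgroup.index_eq_card]
    congr 1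
    symm
    refine Nat.card_congr (Equiv.ofBijective (Quotient.lift (fun g => (⟨ψ g v, g, rfl⟩ :
      {u : (S : Subgroup G) | ∃ g, ψ g v = u})) ?_) ⟨?_, ?_⟩)
    · intro a b hab
      have hab' : a⁻¹ * b ∈ st v := QuotientGroup.leftRel_apply.1 hab
      refine Subtype.ext ?_
      show ψ a v = ψ b v
      have : ψ (a⁻¹ * b) v = v := by
        refine Subtype.ext ?_
        rw [hψ_apply, show (((a⁻¹ * b : (Q₁ : Subgroup M)) : M) : G) * (v : G) =
          (v : G) * (((a⁻¹ * b : (Q₁ : Subgroup M)) : M) : G) from Subgroup.mem_centralizer_singleton_iff.1 hab',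
          mul_inv_cancel_right]
      conv_lhs => rw [← this]
      rw [← MulAut.mul_apply, ← map_mul, mul_inv_cancel_left]
    · intro a b
      induction a using Quotient.inductionOn with | _ a => ?_
      induction b using Quotient.inductionOn with | _ b => ?_
      intro e
      have e' : ψ a v = ψ b v := congrArg Subtype.val e
      refine Quotient.sound (QuotientGroup.leftRel_apply.2 ?_)
      have : ψ (a⁻¹ * b) v = v := by
        rw [map_mul, MulAut.mul_apply, ← e', ← MulAut.mul_apply, ← map_mul, inv_mul_cancel, map_one, MulAut.one_apply]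
      have h1 := congrArg Subtype.val this
      rw [hψ_apply] at h1
      exact Subgroup.mem_centralizer_singleton_iff.2 (mul_inv_eq_iff_eq_mul.1 h1)
    · rintro ⟨u, g, rfl⟩
      exact ⟨Quotient.mk'' g, rfl⟩
  refine no_half_transitive h.ord.q2 Q₁.2 (W := (S : Subgroup G)) (fun v => Subtype.ext (hsq v v.2)) ψ hψ
    (fun v u hv hu => ?_) ?_
  · have h1 := hst v hv
    have h2 := hst u hu
    rw [h.card_centralizer_eq' v.2 (fun e => hv (Subtype.ext e)) u.2 (fun e => hu (Subtype.ext e)), h2] at h1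
    have h3 : Nat.card (st u) = Nat.card (st v) := Nat.eq_of_mul_eq_mul_left Nat.card_pos h1
    have h4 := (horb v).trans (horb u).symm
    rw [h3] at h4
    exact Nat.eq_of_mul_eq_mul_right Nat.card_pos h4
  · obtain ⟨z, hzM, hzo, hzc⟩ := h.exists_q w.2 hw1
    obtain ⟨a, ha, g, hg, e⟩ := hmul ⟨z, hzM⟩
    have e' : (a : G) * g = z := congrArg Subtype.val e
    have haS : (a : G) ∈ (S : Subgroup G) := Subgroup.mem_subgroupOf.1 ha
    have hgc : Commute (g : G) w := by
      rw [show (g : G) = (a : G)⁻¹ * z by rw [← e', inv_mul_cancel_left]]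
      exact ((commute_of_sq hsq haS w.2).inv_left).mul_left hzc.symm
    refine ⟨w, hw, ⟨g, hg⟩, fun e1 => ?_, Subtype.ext ?_⟩
    · have hg1 : (g : G) = 1 := congrArg (fun x : (Q₁ : Subgroup M) => ((x : M) : G)) e1
      rw [hg1, mul_one] at e'
      have h2 := orderOf_dvd_of_pow_eq_one (show z ^ 2 = 1 by rw [← e', pow_two]; exact hsq _ haS)
      rw [hzo] at h2
      exact h.ord.q2 ((Nat.prime_dvd_prime_iff_eq h.ord.hq Nat.prime_two).1 h2)
    · rw [hψ_apply]
      show (g : G) * w * (g : G)⁻¹ = w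
      rw [hgc.eq, mul_inv_cancel_right]

theorem Big.exists_shape [IsSimpleGroup G] {S : Sylow 2 G} (h : Big G q r S) :
    ∃ x y : G, Shape G q r S x y := by
  classical
  set M := Subgroup.normalizer ((S : Subgroup G) : Set G) with hM
  haveI := Fact.mk h.ord.hq
  haveI := Fact.mk h.ord.hr
  have hsq := sylow_sq h.ord S
  letI : CommGroup (S : Subgroup G) := { (inferInstance : Group (S : Subgroup G)) with
    mul_comm := fun a b => Subtype.ext (commute_of_sq hsq a.2 b.2).eq }
  set S' := (S : Subgroup G).subgroupOf M with hS'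
  haveI : S'.Normal := Subgroup.normal_subgroupOf_iff_le_normalizer Subgroup.le_normalizer |>.2 le_rfl
  have hS'c : Nat.card S' = Nat.card S :=
    Nat.card_congr (Subgroup.subgroupOfEquivOfLe Subgroup.le_normalizer).toEquiv
  obtain ⟨s₀, hs₀, hs₀1⟩ := h.exists_ne
  obtain ⟨y₀, hy₀M, hy₀, -⟩ := h.exists_q hs₀ hs₀1
  obtain ⟨x₀, hx₀M, hx₀⟩ := h.exists_r
  have hqM : q ∣ Nat.card M := hy₀ ▸ Subgroup.orderOf_dvd_natCard M hy₀M
  have hrM : r ∣ Nat.card M := hx₀ ▸ Subgroup.orderOf_dvd_natCard M hx₀M
  have hmc : ¬ (2 * q).Prime := Nat.not_prime_mul (by norm_num) h.ord.hq.ne_one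
  -- the primes of `M / S`
  have hquot : ∀ p : ℕ, p.Prime → p ∣ Nat.card (M ⧸ S') → p = q ∨ p = r := by
    intro p hp hd
    have hdM : p ∣ Nat.card M := hd.trans (Subgroup.card_quotient_dvd_card S')
    rcases h.ord.prime_cases hmc hp (hdM.trans (Subgroup.card_subgroup_dvd_card M)) with e | e | e
    · exfalso
      subst e
      rw [← Subgroup.index_eq_card] at hd
      exact S.not_dvd_index (hd.trans (Dvd.intro _ (Subgroup.relIndex_mul_index
        (Subgroup.le_normalizer : (S : Subgroup G) ≤ M))))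
    · exact Or.inl e
    · exact Or.inr e
  haveI : Group.IsSolvable (M ⧸ S') := by
    have hc := Nat.prod_factorization_pow_eq_self (n := Nat.card (M ⧸ S')) Nat.card_pos.ne'
    rw [Finsupp.prod_of_support_subset _ (s := ({q, r} : Finset ℕ)) (by
        intro p hp'
        rw [Nat.support_factorization, Nat.mem_primeFactors] at hp'
        simpa using hquot p hp'.1 hp'.2.1) _ (fun _ _ => pow_zero _), Finset.prod_pair h.ord.qr] at hc
    exact Characters.burnside_pa_qb h.ord.hq h.ord.hr hc.symm
  haveI : Nontrivial (M ⧸ S') := by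
    rw [QuotientGroup.nontrivial_iff]
    intro e
    have : y₀ ∈ (S : Subgroup G) := Subgroup.mem_subgroupOf.1
      (e ▸ Subgroup.mem_top (⟨y₀, hy₀M⟩ : M) : (⟨y₀, hy₀M⟩ : M) ∈ S')
    have h2 := orderOf_dvd_of_pow_eq_one (show y₀ ^ 2 = 1 by rw [pow_two]; exact hsq _ this)
    rw [hy₀] at h2
    exact h.ord.q2 ((Nat.prime_dvd_prime_iff_eq h.ord.hq Nat.prime_two).1 h2)
  obtain ⟨p, hp, hpc⟩ := S1475.exists_pCore_ne_bot (G := M ⧸ S')
  haveI := Fact.mk hp
  set P := Cfsg.pCore p (M ⧸ S') with hP
  set N := P.comap (QuotientGroup.mk' S') with hN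
  haveI : N.Normal := inferInstance
  have hS'N : S' ≤ N := by
    intro x hx
    rw [hN, Subgroup.mem_comap, QuotientGroup.mk'_apply, (QuotientGroup.eq_one_iff x).2 hx]
    exact one_mem _
  have hNc : Nat.card N = Nat.card S * Nat.card P := by rw [hN, Cores.card_comap_mk', hS'c]
  obtain ⟨j, hj⟩ := (Cores.pCore_isPGroup p : IsPGroup p P).exists_card_eq
  have hj0 : j ≠ 0 := fun e => hpc (Subgroup.card_eq_one.1 (by rw [hj, e, pow_zero]))
  have hpqr := hquot p hp ((hj ▸ dvd_pow_self p hj0).trans (Subgroup.card_subgroup_dvd_card P))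
  have h2p : p ≠ 2 := by rcases hpqr with e | e <;> rw [e]; exacts [h.ord.q2, h.ord.r2]
  have hcopS : ∀ {t : ℕ}, t.Prime → t ≠ 2 → ¬ t ∣ Nat.card S := by
    intro t ht ht2 hd
    obtain ⟨k, hk⟩ := S.2.exists_card_eq
    exact ht2 ((Nat.prime_dvd_prime_iff_eq ht Nat.prime_two).1 (ht.dvd_of_dvd_pow (hk ▸ hd)))
  obtain ⟨T⟩ : Nonempty (Sylow p N) := inferInstance
  set T' : Subgroup M := (T : Subgroup N).map N.subtype with hT'
  have hTc : Nat.card T' = p ^ j := by
    rw [hT', Subgroup.card_map_of_injective N.subtype_injective, T.card_eq_multiplicity, hNc, hj,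
      Nat.factorization_mul Nat.card_pos.ne' (pow_ne_zero _ hp.ne_zero), Finsupp.add_apply,
      Nat.factorization_eq_zero_of_not_dvd (hcopS hp h2p), zero_add, hp.factorization_pow, Finsupp.single_eq_same]
  have hfr : Subgroup.normalizer (T' : Set M) ⊔ N = ⊤ := Sylow.normalizer_sup_eq_top T
  have hdvd : Nat.card M ∣ Nat.card ↥(Subgroup.normalizer (T' : Set M)) * Nat.card N := by
    have := Cores.card_sup_dvd_mul (Subgroup.normalizer (T' : Set M)) N
    rwa [hfr, Subgroup.card_top] at this
  have hnorm : ∀ {t : ℕ}, t.Prime → t ≠ 2 → t ≠ p → t ∣ Nat.card M →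
      t ∣ Nat.card ↥(Subgroup.normalizer (T' : Set M)) := by
    intro t ht ht2 htp htM
    rcases ht.dvd_mul.1 (htM.trans hdvd) with hh | hh
    · exact hh
    · exfalso
      rw [hNc, hj] at hh
      rcases ht.dvd_mul.1 hh with hh | hh
      · exact hcopS ht ht2 hh
      · exact htp ((Nat.prime_dvd_prime_iff_eq ht hp).1 (ht.dvd_of_dvd_pow hh))
  rcases hpqr with hpq | hpr
  · -- a normal `q`-subgroup of `M / S`
    exfalso
    subst hpq
    obtain ⟨⟨b, hbN⟩, hb⟩ := exists_prime_orderOf_dvd_card' r (hnorm h.ord.hr h.ord.r2 h.ord.qr.symm hrM)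
    rw [Subgroup.orderOf_mk] at hb
    have hbo : orderOf (b : G) = r := by rw [Subgroup.orderOf_coe, hb]
    have hTodd : Odd (Nat.card T') := by rw [hTc]; exact (odd_q h.ord).pow
    have hTq : ∀ g ∈ T', g ≠ 1 → orderOf (g : G) = p := by
      intro g hg hg1
      have hd : orderOf g ∣ p ^ j := hTc ▸ Subgroup.orderOf_dvd_natCard T' hg
      obtain ⟨i, -, hi⟩ := (Nat.dvd_prime_pow hp).1 hd
      rw [Subgroup.orderOf_coe]
      rcases i with _ | _ | i
      · exact absurd (orderOf_eq_one_iff.1 (by rw [hi, pow_zero])) hg1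
      · rw [hi, pow_one]
      · exfalso
        have hm := dvd_mem_spec (mem_spec ((g : M) : G))
          (show p ^ 2 ∣ orderOf ((g : M) : G) by rw [Subgroup.orderOf_coe, hi]; exact pow_dvd_pow p (by omega))
        exact mul_notMem h.ord hp hp (fun e => h.ord.q2 e.1) (fun e => h.ord.q2 e.2) (pow_two p ▸ hm)
    let ψ : M →* MulAut (S : Subgroup G) := Subgroup.normalizerMonoidHom (S : Subgroup G)
    have hfix := fixed_of_frobenius ψ T' b (p := r) (Subtype.ext (by
        rw [Subgroup.coe_pow, ← hbo, pow_orderOf_eq_one]; rfl))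
      (fun g hg => (Subgroup.mem_normalizer_iff.1 hbN g).1 hg)
      (fun g hg hc => by
        by_contra hg1
        exact not_commute hp h.ord.hr h.ord.qr
          (mul_notMem h.ord hp h.ord.hr (fun e => h.ord.q2 e.1) (fun e => h.ord.r2 e.2))
          (hTq g hg hg1) hbo (show Commute (g : G) (b : G) from (congrArg Subtype.val hc).symm))
      hTodd (fun v => Subtype.ext (hsq v v.2))
      (fun v hv => by
        have hv' : (b : G) * v * (b : G)⁻¹ = v := congrArg Subtype.val hv
        exact Subtype.ext (h.fpf hbo v.2 (mul_inv_eq_iff_eq_mul.1 hv')))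
    obtain ⟨g, hg, hg1⟩ := (Subgroup.bot_or_exists_ne_one T').resolve_left
      (fun e => hj0 (by rw [e, Subgroup.card_bot] at hTc; exact (Nat.pow_eq_one.1 hTc.symm).resolve_left hp.ne_one))
    have hgC : (g : G) ∈ Subgroup.centralizer ((S : Subgroup G) : Set G) := by
      refine Subgroup.mem_centralizer_iff.2 fun s hs => ?_
      have h1 : (g : G) * s * (g : G)⁻¹ = s := congrArg Subtype.val (hfix g hg ⟨s, hs⟩)
      exact (mul_inv_eq_iff_eq_mul.1 h1).symm
    rw [h.cent] at hgC
    have h2 := orderOf_dvd_of_pow_eq_one (show (g : G) ^ 2 = 1 by rw [pow_two]; exact hsq _ hgC)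
    rw [hTq g hg hg1] at h2
    exact h.ord.q2 ((Nat.prime_dvd_prime_iff_eq hp Nat.prime_two).1 h2)
  · -- a normal subgroup of order `r` of `M / S`
    subst hpr
    set Rg : Subgroup G := T'.map M.subtype with hRg
    have hRgc : Nat.card Rg = p ^ j := by rw [hRg, Subgroup.card_map_of_injective M.subtype_injective, hTc]
    have hRgp : IsPGroup p Rg := IsPGroup.of_card hRgc
    have hRgM : Rg ≤ M := Subgroup.map_subtype_le _
    have hRo : ∀ g ∈ Rg, g ≠ 1 → orderOf g = p := by
      intro g hg hg1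
      have hd : orderOf g ∣ p ^ j := hRgc ▸ Subgroup.orderOf_dvd_natCard Rg hg
      obtain ⟨i, -, hi⟩ := (Nat.dvd_prime_pow hp).1 hd
      rcases i with _ | _ | i
      · exact absurd (orderOf_eq_one_iff.1 (by rw [hi, pow_zero])) hg1
      · rw [hi, pow_one]
      · exfalso
        have hm := dvd_mem_spec (mem_spec g) (show p ^ 2 ∣ orderOf g by rw [hi]; exact pow_dvd_pow p (by omega))
        exact mul_notMem h.ord hp hp (fun e => h.ord.r2 e.1) (fun e => h.ord.r2 e.2) (pow_two p ▸ hm)
    obtain ⟨x, hxR, hx1⟩ := (Subgroup.bot_or_exists_ne_one Rg).resolve_left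
      (fun e => hj0 (by rw [e, Subgroup.card_bot] at hRgc; exact (Nat.pow_eq_one.1 hRgc.symm).resolve_left hp.ne_one))
    have hxo := hRo x hxR hx1
    have hj1 : j = 1 := by
      rcases Coprime.fpf_isCyclic_or_quaternion hRgp (K := (S : Subgroup G)) hRgM
        (fun a ha ha1 => (Subgroup.eq_bot_iff_forall _).2 fun v hv =>
          h.fpf (hRo a ha ha1) hv.1 (Subgroup.mem_centralizer_singleton_iff.1 hv.2).symm) h.ne_bot with hc | ⟨e, -⟩
      · obtain ⟨g, hg⟩ := hc.exists_generator
        have h1 := orderOf_eq_card_of_forall_mem_zpowers hg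
        rw [hRgc, ← Subgroup.orderOf_coe] at h1
        have hg1 : (g : G) ≠ 1 := fun e => by
          rw [e, orderOf_one] at h1
          exact hj0 ((Nat.pow_eq_one.1 h1.symm).resolve_left hp.ne_one)
        rw [hRo g g.2 hg1] at h1
        exact (Nat.pow_right_injective hp.two_le (show p ^ 1 = p ^ j by rw [pow_one]; exact h1)).symm
      · exact absurd e h2p
    rw [hj1, pow_one] at hRgc hTc hj
    have hRgx : Rg = Subgroup.zpowers x :=
      (Subgroup.eq_of_le_of_card_ge (Subgroup.zpowers_le.2 hxR) (by rw [Nat.card_zpowers, hxo, hRgc])).symm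
    set NT := Subgroup.normalizer (T' : Set M) with hNT
    have hnormx : ∀ g : M, g ∈ NT → (g : G) * x * (g : G)⁻¹ ∈ Subgroup.zpowers x := by
      intro g hg
      obtain ⟨x', hx', hxe⟩ := hxR
      rw [← hRgx, ← hxe]
      exact ⟨g * x' * g⁻¹, (Subgroup.mem_normalizer_iff.1 hg x').1 hx', rfl⟩
    -- the Sylow `q`-subgroup of `NT`
    obtain ⟨Q₁⟩ : Nonempty (Sylow q NT) := inferInstance
    have hQ1 : Nat.card Q₁ ≤ q := by
      let ι : ↥(Q₁ : Subgroup NT) →* MulAut (Subgroup.zpowers x) :=
        (Subgroup.normalizerMonoidHom (Subgroup.zpowers x)).comp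
          { toFun := fun g => (⟨(((g : NT) : M) : G), FiveOrders.mem_normalizer_of_conj fun z hz => by
              obtain ⟨i, rfl⟩ := Subgroup.mem_zpowers_iff.1 hz
              rw [← conj_zpow]
              exact Subgroup.zpow_mem _ (hnormx _ (g : NT).2) i⟩ :
                Subgroup.normalizer ((Subgroup.zpowers x : Subgroup G) : Set G))
            map_one' := rfl
            map_mul' := fun _ _ => rfl }
      have hι : Function.Injective ι := by
        refine (injective_iff_map_eq_one ι).2 fun g hg => ?_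
        by_contra hg1
        have hc : (((g : NT) : M) : G) * x * (((g : NT) : M) : G)⁻¹ = x :=
          congrArg Subtype.val (MulEquiv.congr_fun hg ⟨x, Subgroup.mem_zpowers x⟩)
        obtain ⟨k, hk⟩ := IsPGroup.iff_orderOf.1 Q₁.2 g
        rcases k with _ | k
        · exact hg1 (orderOf_eq_one_iff.1 (by rw [hk, pow_zero]))
        have ho : orderOf ((((g : NT) : M) : G) ^ q ^ k) = q := by
          rw [orderOf_pow' _ (pow_ne_zero _ h.ord.hq.ne_zero), Subgroup.orderOf_coe, Subgroup.orderOf_coe,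
            Subgroup.orderOf_coe, hk, Nat.gcd_eq_right (pow_dvd_pow q k.le_succ),
            Nat.pow_div k.le_succ h.ord.hq.pos, Nat.succ_sub (le_refl k), Nat.sub_self, pow_one]
        exact not_commute h.ord.hq hp h.ord.qr
          (mul_notMem h.ord h.ord.hq hp (fun e => h.ord.q2 e.1) (fun e => h.ord.r2 e.2)) ho hxo
          ((show Commute (((g : NT) : M) : G) x from mul_inv_eq_iff_eq_mul.1 hc).pow_left _)
      haveI : IsCyclic (MulAut (Subgroup.zpowers x)) := by
        haveI : Fact (Nat.card (Subgroup.zpowers x)).Prime := ⟨by rw [Nat.card_zpowers, hxo]; exact hp⟩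
        exact isCyclic_of_injective (IsCyclic.mulAutMulEquiv (Subgroup.zpowers x)).toMonoidHom
          (MulEquiv.injective _)
      haveI : IsCyclic ↥(Q₁ : Subgroup NT) := isCyclic_of_injective ι hι
      obtain ⟨g, hg⟩ := IsCyclic.exists_generator (α := ↥(Q₁ : Subgroup NT))
      have hco := orderOf_eq_card_of_forall_mem_zpowers hg
      obtain ⟨k, hk⟩ := Q₁.2.exists_card_eq
      by_contra hlt
      push Not at hlt
      have hk2 : 2 ≤ k := by
        rcases k with _ | _ | k
        · rw [hk, pow_zero] at hlt; have := h.ord.hq.one_lt; omega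
        · rw [hk, pow_one] at hlt; omega
        · omega
      have hm := dvd_mem_spec (mem_spec ((((g : NT) : M) : G))) (show q ^ 2 ∣ orderOf (((g : NT) : M) : G) by
        rw [Subgroup.orderOf_coe, Subgroup.orderOf_coe, Subgroup.orderOf_coe, hco, hk]; exact pow_dvd_pow q hk2)
      exact mul_notMem h.ord h.ord.hq h.ord.hq (fun e => h.ord.q2 e.1) (fun e => h.ord.q2 e.2) (pow_two q ▸ hm)
    have hqNT : q ∣ Nat.card NT := hnorm h.ord.hq h.ord.q2 h.ord.qr hqM
    obtain ⟨⟨y', hy'N⟩, hy'⟩ := exists_prime_orderOf_dvd_card' q hqNT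
    rw [Subgroup.orderOf_mk] at hy'
    have hyo : orderOf (y' : G) = q := by rw [Subgroup.orderOf_coe, hy']
    -- the order of `M`
    have hMc : Nat.card M = Nat.card S * p * q := by
      refine Nat.dvd_antisymm ?_ ?_
      · refine (Nat.factorization_le_iff_dvd Nat.card_pos.ne'
          (mul_ne_zero (mul_ne_zero Nat.card_pos.ne' hp.ne_zero) h.ord.hq.ne_zero)).1 fun t => ?_
        by_cases ht : t.Prime
        swap
        · simp [Nat.factorization_eq_zero_of_not_prime _ ht]
        by_cases hd : t ∣ Nat.card M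
        swap
        · simp [Nat.factorization_eq_zero_of_not_dvd hd]
        have hMd := (Nat.factorization_le_iff_dvd Nat.card_pos.ne'
          (mul_ne_zero Nat.card_pos.ne' Nat.card_pos.ne')).2 hdvd t
        rw [Nat.factorization_mul Nat.card_pos.ne' Nat.card_pos.ne', hNc, hj,
          Nat.factorization_mul Nat.card_pos.ne' hp.ne_zero] at hMd
        rw [Nat.factorization_mul (mul_ne_zero Nat.card_pos.ne' hp.ne_zero) h.ord.hq.ne_zero,
          Nat.factorization_mul Nat.card_pos.ne' hp.ne_zero]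
        simp only [Finsupp.add_apply] at hMd ⊢
        rcases h.ord.prime_cases hmc ht (hd.trans (Subgroup.card_subgroup_dvd_card M)) with e | e | e
        · -- the prime two
          subst e
          have h1 := S.card_eq_multiplicity
          have h2 : (Nat.card S).factorization 2 = (Nat.card G).factorization 2 := by
            rw [h1, Nat.prime_two.factorization_pow, Finsupp.single_eq_same]
          have h3 : (Nat.card M).factorization 2 ≤ (Nat.card G).factorization 2 :=
            (Nat.factorization_le_iff_dvd Nat.card_pos.ne' Nat.card_pos.ne').2 (Subgroup.card_subgroup_dvd_card M) 2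
          omega
        · subst e
          have h1 : (Nat.card NT).factorization t ≤ 1 := by
            by_contra hlt
            push Not at hlt
            rw [Q₁.card_eq_multiplicity] at hQ1
            have hlt' : 2 ≤ (Nat.card NT).factorization t := hlt
            have h5 := Nat.pow_le_pow_right h.ord.hq.pos hlt'
            have h6 : t ^ 1 < t ^ 2 := Nat.pow_lt_pow_right h.ord.hq.one_lt (by norm_num)
            rw [pow_one] at h6
            omega
          have h2 : (Nat.card S).factorization t = 0 := Nat.factorization_eq_zero_of_not_dvd (hcopS h.ord.hq h.ord.q2)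
          have h3 : p.factorization t = 0 := Nat.factorization_eq_zero_of_not_dvd fun hd' =>
            h.ord.qr ((Nat.prime_dvd_prime_iff_eq h.ord.hq hp).1 hd')
          have h4 : t.factorization t = 1 := Nat.Prime.factorization_self h.ord.hq
          omega
        · subst e
          have h2 : (Nat.card S).factorization t = 0 := Nat.factorization_eq_zero_of_not_dvd (hcopS hp h2p)
          have h3 : t.factorization t = 1 := Nat.Prime.factorization_self hp
          have h5 : (Nat.card M).factorization t ≤ 1 := by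
            obtain ⟨R₂⟩ : Nonempty (Sylow t M) := inferInstance
            set R2 : Subgroup G := (R₂ : Subgroup M).map M.subtype with hR2
            have hR2p : IsPGroup t R2 := R₂.2.map _
            have hR2c : Nat.card R2 = t ^ (Nat.card M).factorization t := by
              rw [hR2, Subgroup.card_map_of_injective M.subtype_injective, R₂.card_eq_multiplicity]
            have hR2o : ∀ g ∈ R2, g ≠ 1 → orderOf g = t := by
              intro g hg hg1
              obtain ⟨i, hi⟩ := IsPGroup.iff_orderOf.1 hR2p ⟨g, hg⟩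
              rw [Subgroup.orderOf_mk] at hi
              rcases i with _ | _ | i
              · exact absurd (orderOf_eq_one_iff.1 (by rw [hi, pow_zero])) hg1
              · rw [hi, zero_add, pow_one]
              · exfalso
                have hm := dvd_mem_spec (mem_spec g) (show t ^ 2 ∣ orderOf g by rw [hi]; exact pow_dvd_pow t (by omega))
                exact mul_notMem h.ord hp hp (fun e => h.ord.r2 e.1) (fun e => h.ord.r2 e.2) (pow_two t ▸ hm)
            rcases Coprime.fpf_isCyclic_or_quaternion hR2p (K := (S : Subgroup G))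
              (Subgroup.map_subtype_le _)
              (fun a ha ha1 => (Subgroup.eq_bot_iff_forall _).2 fun v hv =>
                h.fpf (hR2o a ha ha1) hv.1 (Subgroup.mem_centralizer_singleton_iff.1 hv.2).symm) h.ne_bot
              with hc | ⟨e, -⟩
            · obtain ⟨g, hg⟩ := hc.exists_generator
              have h1 := orderOf_eq_card_of_forall_mem_zpowers hg
              rw [hR2c, ← Subgroup.orderOf_coe] at h1
              by_cases hg1 : (g : G) = 1
              · rw [hg1, orderOf_one] at h1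
                have := (Nat.pow_eq_one.1 h1.symm).resolve_left hp.ne_one
                omega
              · rw [hR2o g g.2 hg1] at h1
                exact le_of_eq (Nat.pow_right_injective hp.two_le (show t ^ 1 = _ by rw [pow_one]; exact h1)).symm
            · exact absurd e h2p
          omega
      · refine Nat.Coprime.mul_dvd_of_dvd_of_dvd ?_ ?_ hqM
        · exact ((Nat.Prime.coprime_iff_not_dvd h.ord.hq).2 fun hd => (h.ord.hq.dvd_mul.1 hd).elim
            (hcopS h.ord.hq h.ord.q2) fun e => h.ord.qr ((Nat.prime_dvd_prime_iff_eq h.ord.hq hp).1 e)).symm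
        · exact Nat.Coprime.mul_dvd_of_dvd_of_dvd ((Nat.Prime.coprime_iff_not_dvd hp).2 (hcopS hp h2p)).symm
            (Subgroup.card_dvd_of_le Subgroup.le_normalizer) hrM
    refine ⟨x, (y' : G), hxo, hyo, hRgM hxR, y'.2, hnormx y' hy'N, hMc, fun z hz hzo => ?_⟩
    -- conjugates of the powers of `y`
    set Y := Subgroup.zpowers y' with hY
    have hYc : Nat.card Y = q := by rw [hY, Nat.card_zpowers, hy']
    have hNY : N ⊔ Y = ⊤ := by
      have hdisj : Y ⊓ N = ⊥ := by
        refine Subgroup.eq_bot_of_card_eq _ (Nat.dvd_one.1 ?_)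
        have h1 : Nat.card ↥(Y ⊓ N) ∣ q := hYc ▸ Subgroup.card_dvd_of_le inf_le_left
        have h2 : Nat.card ↥(Y ⊓ N) ∣ Nat.card N := Subgroup.card_dvd_of_le inf_le_right
        rcases (Nat.dvd_prime h.ord.hq).1 h1 with e | e
        · rw [e]
        · exfalso
          rw [e, hNc, hj] at h2
          rcases h.ord.hq.dvd_mul.1 h2 with hh | hh
          · exact hcopS h.ord.hq h.ord.q2 hh
          · exact h.ord.qr ((Nat.prime_dvd_prime_iff_eq h.ord.hq hp).1 hh)
      refine Subgroup.eq_top_of_card_eq _ ?_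
      have := Cores.card_sup_mul_card_inf Y N
      rw [hdisj, Subgroup.card_bot, mul_one, hYc, hNc, hj] at this
      rw [sup_comm, this, hMc]; ring
    obtain ⟨Qz, hQz⟩ := (IsPGroup.of_card (n := 1) (by rw [Nat.card_zpowers, pow_one, ← hzo, Subgroup.orderOf_mk]) :
      IsPGroup q (Subgroup.zpowers (⟨z, hz⟩ : M))).exists_le_sylow
    obtain ⟨Qy, hQy⟩ := (IsPGroup.of_card (n := 1) (by rw [hYc, pow_one]) : IsPGroup q Y).exists_le_sylow
    have hfM : (Nat.card M).factorization q = 1 := by
      rw [hMc, Nat.factorization_mul (mul_ne_zero Nat.card_pos.ne' hp.ne_zero) h.ord.hq.ne_zero,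
        Nat.factorization_mul Nat.card_pos.ne' hp.ne_zero, Finsupp.add_apply, Finsupp.add_apply,
        Nat.factorization_eq_zero_of_not_dvd (hcopS h.ord.hq h.ord.q2),
        Nat.factorization_eq_zero_of_not_dvd fun hd' => h.ord.qr ((Nat.prime_dvd_prime_iff_eq h.ord.hq hp).1 hd'),
        Nat.Prime.factorization_self h.ord.hq]
    have hQyc : (Qy : Subgroup M) = Y := by
      refine (Subgroup.eq_of_le_of_card_ge hQy ?_).symm
      rw [Qy.card_eq_multiplicity, hfM, pow_one, hYc]
    obtain ⟨m, hm⟩ := MulAction.exists_smul_eq M Qy Qz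
    have hzm : m⁻¹ * ⟨z, hz⟩ * m ∈ Y := by
      have h1 : (⟨z, hz⟩ : M) ∈ ((m • Qy : Sylow q M) : Subgroup M) := by rw [hm]; exact hQz (Subgroup.mem_zpowers _)
      rw [Sylow.coe_subgroup_smul, Subgroup.mem_pointwise_smul_iff_inv_smul_mem, ← map_inv, MulAut.smul_def,
        MulAut.conj_apply, inv_inv, hQyc] at h1
      exact h1
    have hmN : m ∈ N ⊔ Y := hNY ▸ Subgroup.mem_top m
    rw [← SetLike.mem_coe, Subgroup.normal_mul] at hmN
    obtain ⟨n, hn, v, hv, rfl⟩ := hmN
    have hzn : n⁻¹ * ⟨z, hz⟩ * n ∈ Y := by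
      have := Y.mul_mem (Y.mul_mem hv hzm) (Y.inv_mem hv)
      simpa [mul_assoc] using this
    have hTN : T' ≤ N := Subgroup.map_subtype_le _
    have hNe : S' ⊔ T' = N := by
      refine Subgroup.eq_of_le_of_card_ge (sup_le hS'N hTN) (Nat.le_of_dvd Nat.card_pos ?_)
      rw [hNc, hj]
      refine Nat.Coprime.mul_dvd_of_dvd_of_dvd ((Nat.Prime.coprime_iff_not_dvd hp).2 (hcopS hp h2p)).symm ?_ ?_
      · exact hS'c ▸ Subgroup.card_dvd_of_le le_sup_left
      · exact hTc ▸ Subgroup.card_dvd_of_le le_sup_right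
    have hnN : n ∈ (N : Set M) := hn
    rw [SetLike.mem_coe, ← hNe, ← SetLike.mem_coe, Subgroup.normal_mul] at hnN
    obtain ⟨a, ha, b, hb, rfl⟩ := hnN
    have hbx : (b : G) ∈ Subgroup.zpowers x := hRgx ▸ Subgroup.mem_map_of_mem M.subtype hb
    obtain ⟨i, hi⟩ := (Submonoid.mem_powers_iff _ _).1 (mem_powers_iff_mem_zpowers.2 hbx)
    obtain ⟨l, hl⟩ := (Submonoid.mem_powers_iff _ _).1 (mem_powers_iff_mem_zpowers.2 hzn)
    have hl' : (y' : G) ^ l = ((a : G) * x ^ i)⁻¹ * z * ((a : G) * x ^ i) := by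
      rw [hi]
      exact congrArg Subtype.val hl
    have hyq : (y' : G) ^ q = 1 := by rw [← hyo]; exact pow_orderOf_eq_one _
    have hmod : (y' : G) ^ (l % q) = (y' : G) ^ l := by
      conv_rhs => rw [← Nat.mod_add_div l q, pow_add, pow_mul, hyq, one_pow, mul_one]
    refine ⟨a, Subgroup.mem_subgroupOf.1 ha, i, l % q, ?_, Nat.mod_lt _ h.ord.hq.pos, ?_⟩
    · rw [Nat.one_le_iff_ne_zero]
      intro e
      rw [e, pow_zero] at hmod
      rw [← hmod] at hl'
      have hz1 : z = 1 := by
        have := congrArg (fun w => ((a : G) * x ^ i) * w * ((a : G) * x ^ i)⁻¹) hl'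
        simpa [mul_assoc] using this.symm
      rw [hz1, orderOf_one] at hzo
      exact h.ord.hq.ne_one hzo.symm
    · rw [hmod, hl']; group

end Cfsg.Agent.GroupStructure3.FiveOrbits.TwoQ
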