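import Cfsg.Agent.GroupStructure3.FiveOrbits.TwoQ.Big

/-!
# The spectrum `{1, 2, q, r, 2q}`: the count in the case `N(S) = S ⋊ (r : q)`
-/

set_option autoImplicit false

namespace Cfsg.Agent.GroupStructure3.FiveOrbits.TwoQ

open FiveOrders (conjS mem_conjS card_conjS commute_of_sq)

universe u

/-- The arithmetic when `q² ∣ |G|`. -/
theorem arith_square {G n2 nq n2q nr b N q v : ℕ} (hpart : G = 1 + n2 + nq + nr + n2q)
    (h2 : n2 * (N * q) = G * (b - 1)) (h2q : n2q * (b * q) ≤ G * (b - 1) * (q - 1))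
    (hq : nq * (b * q * v) ≤ (q - 1) * G) (hG : b * q * v ≤ G) (hr : q * nr + 1 ≤ G)
    (hb : 1 ≤ b) (hbN : b * (b - 1) ≤ N) (hN : 0 < N) (hv : 3 ≤ v) (hq3 : 3 ≤ q) : False := by
  obtain ⟨c, rfl⟩ : ∃ c, b = c + 1 := ⟨b - 1, by omega⟩
  obtain ⟨p, rfl⟩ : ∃ p, q = p + 1 := ⟨q - 1, by omega⟩
  rw [Nat.add_sub_cancel] at h2 h2q hbN hq
  rw [Nat.add_sub_cancel] at h2q
  have hG0 : 0 < G := lt_of_lt_of_le (by positivity) hG
  -- multiply the class equation by `b v N`
  have e1 : (p + 1) * n2 * ((c + 1) * v * N) = G * c * ((c + 1) * v) := by rw [← h2]; ring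
  have e2 : (p + 1) * nq * ((c + 1) * v * N) ≤ p * G * N := by
    calc (p + 1) * nq * ((c + 1) * v * N) = nq * ((c + 1) * (p + 1) * v) * N := by ring
      _ ≤ _ := Nat.mul_le_mul_right _ hq
  have e3 : (p + 1) * n2q * ((c + 1) * v * N) ≤ G * c * p * v * N := by
    calc (p + 1) * n2q * ((c + 1) * v * N) = n2q * ((c + 1) * (p + 1)) * (v * N) := by ring
      _ ≤ G * c * p * (v * N) := Nat.mul_le_mul_right _ h2q
      _ = _ := by ring
  have e4 : (p + 1) * ((c + 1) * v * N) ≤ G * N := by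
    calc (p + 1) * ((c + 1) * v * N) = (c + 1) * (p + 1) * v * N := by ring
      _ ≤ _ := Nat.mul_le_mul_right _ hG
  have e5 : G * c * ((c + 1) * v) ≤ G * N * v := by
    calc G * c * ((c + 1) * v) = G * ((c + 1) * c) * v := by ring
      _ ≤ _ := Nat.mul_le_mul_right _ (Nat.mul_le_mul_left _ hbN)
  have e6 : p * G ≤ (p + 1) * (1 + n2 + nq + n2q) - 1 + 0 := by
    have : (p + 1) * G = (p + 1) * (1 + n2 + nq + n2q) + (p + 1) * nr := by rw [hpart]; ring
    have h7 : (p + 1) * G = p * G + G := by ring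
    omega
  have e7 : (p * G + 1) * ((c + 1) * v * N) ≤ (p + 1) * (1 + n2 + nq + n2q) * ((c + 1) * v * N) :=
    Nat.mul_le_mul_right _ (by
      have : 0 < (p + 1) * (1 + n2 + nq + n2q) := by positivity
      omega)
  have e8 : (p * G + 1) * ((c + 1) * v * N) ≤ G * N + G * N * v + p * G * N + G * c * p * v * N := by
    refine e7.trans ?_
    have : (p + 1) * (1 + n2 + nq + n2q) * ((c + 1) * v * N) = (p + 1) * ((c + 1) * v * N) +
        (p + 1) * n2 * ((c + 1) * v * N) + (p + 1) * nq * ((c + 1) * v * N) +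
        (p + 1) * n2q * ((c + 1) * v * N) := by ring
    rw [this, e1]
    omega
  have e9 : 0 < (c + 1) * v * N := by positivity
  have hGN : 0 < G * N := by positivity
  have e10 : G * N * (1 + v + p) ≤ G * N * (p * v) := Nat.mul_le_mul_left _ (by nlinarith)
  nlinarith

/-- The arithmetic when the Sylow `r`-normalizer is large. -/
theorem arith_large {G n2 nq n2q nr b N q : ℕ} (hpart : G = 1 + n2 + nq + nr + n2q)
    (h2 : n2 * (N * q) = G * (b - 1)) (h2q : n2q * (b * q) ≤ G * (b - 1) * (q - 1))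
    (hq : nq * (b * q) ≤ (q - 1) * G) (hr : 2 * q * nr ≤ G) (hG : 4 * q < G)
    (hb : 1 ≤ b) (hbN : b * b ≤ N) (hq3 : 3 ≤ q) : False := by
  obtain ⟨c, rfl⟩ : ∃ c, b = c + 1 := ⟨b - 1, by omega⟩
  obtain ⟨p, rfl⟩ : ∃ p, q = p + 1 := ⟨q - 1, by omega⟩
  rw [Nat.add_sub_cancel] at h2 h2q hq
  rw [Nat.add_sub_cancel] at h2q
  have hN : 0 < N := lt_of_lt_of_le (by positivity) hbN
  have e1 : 2 * (p + 1) * n2 * ((c + 1) * N) = 2 * G * c * (c + 1) := by
    calc 2 * (p + 1) * n2 * ((c + 1) * N) = 2 * (n2 * (N * (p + 1))) * (c + 1) := by ring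
      _ = _ := by rw [h2]; ring
  have e2 : 2 * (p + 1) * nq * ((c + 1) * N) ≤ 2 * p * G * N := by
    calc 2 * (p + 1) * nq * ((c + 1) * N) = 2 * (nq * ((c + 1) * (p + 1))) * N := by ring
      _ ≤ 2 * (p * G) * N := Nat.mul_le_mul_right _ (Nat.mul_le_mul_left _ hq)
      _ = _ := by ring
  have e3 : 2 * (p + 1) * n2q * ((c + 1) * N) ≤ 2 * G * c * p * N := by
    calc 2 * (p + 1) * n2q * ((c + 1) * N) = 2 * (n2q * ((c + 1) * (p + 1))) * N := by ring
      _ ≤ 2 * (G * c * p) * N := Nat.mul_le_mul_right _ (Nat.mul_le_mul_left _ h2q)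
      _ = _ := by ring
  have e4 : 2 * (p + 1) * nr * ((c + 1) * N) ≤ G * ((c + 1) * N) := Nat.mul_le_mul_right _ hr
  have e5 : 2 * (p + 1) * G * ((c + 1) * N) = 2 * (p + 1) * ((c + 1) * N) + 2 * (p + 1) * n2 * ((c + 1) * N) +
      2 * (p + 1) * nq * ((c + 1) * N) + 2 * (p + 1) * nr * ((c + 1) * N) + 2 * (p + 1) * n2q * ((c + 1) * N) := by
    conv_lhs => rw [hpart]
    ring
  -- `2 q N + 2 G c < G N`
  have e6 : 4 * c ≤ N := by rcases c with _ | c <;> nlinarith
  have e7 : 2 * (p + 1) * N * 2 < G * N := by nlinarith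
  have e8 : 4 * (G * c) ≤ G * N := by nlinarith
  nlinarith

variable {G : Type u} [Group G] [Finite G] {q r : ℕ}

/-- A subgroup of `r`-power order dividing `N - 1`, when the Sylow `r`-subgroups intersect trivially. -/
theorem card_dvd_sylow_sub_one [Fact r.Prime] (R : Sylow r G)
    (hti : ∀ P : Sylow r G, P ≠ R → ∀ g ∈ (R : Subgroup G), g ∈ (P : Subgroup G) → g = 1)
    (hself : ∀ P : Sylow r G, ∀ g ∈ (R : Subgroup G), g • P = P → g ∈ (P : Subgroup G)) :
    Nat.card R ∣ Nat.card (Sylow r G) - 1 := by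
  classical
  letI : Fintype (R : Subgroup G) := Fintype.ofFinite _
  letI : Fintype (Sylow r G) := Fintype.ofFinite _
  haveI : ∀ g : (R : Subgroup G), Fintype (MulAction.fixedBy (Sylow r G) g) := fun g => Fintype.ofFinite _
  letI : Fintype (MulAction.orbitRel.Quotient (R : Subgroup G) (Sylow r G)) := Fintype.ofFinite _
  have key := MulAction.sum_card_fixedBy_eq_card_orbits_mul_card_group (R : Subgroup G) (Sylow r G)
  rw [← Finset.add_sum_erase _ _ (Finset.mem_univ (1 : (R : Subgroup G)))] at key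
  have h1 : Fintype.card (MulAction.fixedBy (Sylow r G) (1 : (R : Subgroup G))) = Fintype.card (Sylow r G) :=
    Fintype.card_congr (Equiv.subtypeUnivEquiv fun P => one_smul _ P)
  have h2 : ∀ g ∈ Finset.univ.erase (1 : (R : Subgroup G)),
      Fintype.card (MulAction.fixedBy (Sylow r G) g) = 1 := by
    intro g hg
    have hg1 : (g : G) ≠ 1 := fun e => Finset.ne_of_mem_erase hg (Subtype.ext e)
    refine Fintype.card_eq_one_iff.2 ⟨⟨R, ?_⟩, fun P => Subtype.ext ?_⟩
    · exact Sylow.smul_eq_iff_mem_normalizer.2 (Subgroup.le_normalizer g.2)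
    · by_contra hne
      exact hg1 (hti P.1 hne g g.2 (hself P.1 g g.2 P.2))
  rw [h1, Finset.sum_congr rfl h2, Finset.sum_const, smul_eq_mul, mul_one,
    Finset.card_erase_of_mem (Finset.mem_univ _), Finset.card_univ] at key
  rw [Nat.card_eq_fintype_card (α := Sylow r G), show Nat.card R = Fintype.card (R : Subgroup G) from
    Nat.card_eq_fintype_card]
  have hR : 0 < Fintype.card (R : Subgroup G) := Fintype.card_pos
  have hP : 0 < Fintype.card (Sylow r G) := Fintype.card_pos
  set K := Fintype.card (R : Subgroup G)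
  set O := Fintype.card (MulAction.orbitRel.Quotient (R : Subgroup G) (Sylow r G))
  refine ⟨O - 1, ?_⟩
  rw [Nat.mul_sub, mul_one, mul_comm]
  omega

variable [Fact (Nat.Prime 2)] [IsSimpleGroup G]

theorem Big.false {S : Sylow 2 G} (h : Big G q r S) (hns : ¬ Group.IsSolvable G) : False := by
  classical
  haveI := Fact.mk h.ord.hq
  haveI := Fact.mk h.ord.hr
  obtain ⟨x, y, P⟩ := h.exists_shape
  set M := Subgroup.normalizer ((S : Subgroup G) : Set G) with hM
  have hsq := sylow_sq h.ord S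
  set B := (S : Subgroup G) ⊓ Subgroup.centralizer ({y} : Set G) with hB
  set N := Nat.card S with hN
  set b := Nat.card B with hb
  have hmc : ¬ (2 * q).Prime := Nat.not_prime_mul (by norm_num) h.ord.hq.ne_one
  have hyq : y ^ q = 1 := by rw [← P.oy]; exact pow_orderOf_eq_one y
  have hxr : x ^ r = 1 := by rw [← P.ox]; exact pow_orderOf_eq_one x
  -- powers of `y` have the same centralizer
  have hypow : ∀ {g : G} {j : ℕ}, 1 ≤ j → j < q → Commute g (y ^ j) → Commute g y := by
    intro g j hj1 hjq hc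
    obtain ⟨k, -, hk⟩ := Nat.exists_mul_mod_eq_one_of_coprime
      (((h.ord.hq.coprime_iff_not_dvd (n := j)).mpr fun hd => by
        have := Nat.le_of_dvd (by omega) hd
        omega).symm) h.ord.hq.one_lt
    have h1 : (y ^ j) ^ k = y := by
      rw [← pow_mul, ← Nat.mod_add_div (j * k) q, hk, pow_add, pow_one, pow_mul, hyq, one_pow, mul_one]
    exact h1 ▸ hc.pow_right k
  -- every element of `S` is fixed by a conjugate of `y` under `⟨x⟩`
  have hcover : ∀ s ∈ (S : Subgroup G), s ≠ 1 → ∃ i : ℕ, (x ^ i)⁻¹ * s * x ^ i ∈ B := by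
    intro s hs hs1
    obtain ⟨z, hzM, hzo, hzc⟩ := h.exists_q hs hs1
    obtain ⟨a, ha, i, j, hj1, hjq, rfl⟩ := P.conj z hzM hzo
    refine ⟨i, Subgroup.mem_inf.2 ⟨?_, Subgroup.mem_centralizer_singleton_iff.2 (hypow hj1 hjq ?_).eq⟩⟩
    · have := (Subgroup.mem_normalizer_iff.1 (M.inv_mem (M.pow_mem P.xM i)) s).1 hs
      rwa [inv_inv] at this
    · have h1 := hzc.map (MulAut.conj (a * x ^ i)⁻¹).toMonoidHom
      have h2 : a⁻¹ * s * a = s := by rw [mul_assoc, (commute_of_sq hsq hs ha).eq, inv_mul_cancel_left]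
      simp only [MulEquiv.coe_toMonoidHom, MulAut.conj_apply, inv_inv] at h1
      rwa [show (a * x ^ i)⁻¹ * (a * x ^ i * y ^ j * (a * x ^ i)⁻¹) * (a * x ^ i) = y ^ j by group,
        show (a * x ^ i)⁻¹ * s * (a * x ^ i) = (x ^ i)⁻¹ * (a⁻¹ * s * a) * x ^ i by group, h2] at h1
  -- distinct conjugates share no fixed involution
  have hdisj : ∀ m : ℕ, x ^ m ≠ 1 → ∀ c ∈ B, x ^ m * c * (x ^ m)⁻¹ ∈ B → c = 1 := by
    intro m hm c hc hc'
    by_contra hc1
    have hcy : Commute c y := Subgroup.mem_centralizer_singleton_iff.1 hc.2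
    set y' := (x ^ m)⁻¹ * y * x ^ m with hy'
    have hcy' : Commute c y' := by
      have h1 := (show Commute (x ^ m * c * (x ^ m)⁻¹) y from Subgroup.mem_centralizer_singleton_iff.1 hc'.2).map
        (MulAut.conj (x ^ m)⁻¹).toMonoidHom
      simp only [MulEquiv.coe_toMonoidHom, MulAut.conj_apply, inv_inv] at h1
      rwa [show (x ^ m)⁻¹ * (x ^ m * c * (x ^ m)⁻¹) * x ^ m = c by group] at h1
    have hmem : y⁻¹ * y' ∈ Subgroup.zpowers x := by
      rw [hy', show y⁻¹ * ((x ^ m)⁻¹ * y * x ^ m) = (y⁻¹ * (x ^ m)⁻¹ * y) * x ^ m by group]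
      refine mul_mem ?_ (Subgroup.pow_mem _ (Subgroup.mem_zpowers x) m)
      have hinv : y⁻¹ * x * y ∈ Subgroup.zpowers x := by
        have hit : ∀ n : ℕ, y ^ n * x * (y ^ n)⁻¹ ∈ Subgroup.zpowers x := by
          intro n
          induction n with
          | zero => simp
          | succ n ih =>
            obtain ⟨l, hl⟩ := Subgroup.mem_zpowers_iff.1 ih
            rw [pow_succ' y, mul_inv_rev, show y * y ^ n * x * ((y ^ n)⁻¹ * y⁻¹) = y * (y ^ n * x * (y ^ n)⁻¹) * y⁻¹ by group,
              ← hl, ← conj_zpow]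
            exact Subgroup.zpow_mem _ P.norm l
        have e : y⁻¹ = y ^ (q - 1) := inv_eq_of_mul_eq_one_right (by
          rw [← pow_succ', Nat.sub_add_cancel h.ord.hq.one_lt.le, hyq])
        have := hit (q - 1)
        rwa [← e, inv_inv] at this
      obtain ⟨l, hl⟩ := Subgroup.mem_zpowers_iff.1 hinv
      rw [show y⁻¹ * (x ^ m)⁻¹ * y = ((y⁻¹ * x * y⁻¹⁻¹) ^ m)⁻¹ by rw [conj_pow, inv_inv]; group, inv_inv, ← hl]
      exact inv_mem (Subgroup.pow_mem _ (Subgroup.zpow_mem _ (Subgroup.mem_zpowers x) l) m)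
    obtain ⟨l, hl⟩ := (Submonoid.mem_powers_iff _ _).1 (mem_powers_iff_mem_zpowers.2 hmem)
    have hcl : Commute c (x ^ l) := hl ▸ hcy.inv_right.mul_right hcy'
    have hxl : x ^ l = 1 := by
      by_contra hne
      exact hc1 (h.fpf (orderOf_eq_prime (by rw [← pow_mul, mul_comm, pow_mul, hxr, one_pow]) hne) hc.1 hcl.symm)
    have hyy : y' = y := (inv_mul_eq_one.1 (hl.symm.trans hxl)).symm
    have hcomm : Commute (x ^ m) y := by
      show x ^ m * y = y * x ^ m
      conv_lhs => rw [← hyy, hy']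
      group
    exact not_commute h.ord.hr h.ord.hq h.ord.qr.symm (r_alone h.ord q h.ord.hq h.ord.qr)
      (orderOf_eq_prime (by rw [← pow_mul, mul_comm, pow_mul, hxr, one_pow]) hm) P.oy hcomm
  have hconjB : ∀ (i : ℕ) (c : G), c ∈ B → x ^ i * c * (x ^ i)⁻¹ ∈ (S : Subgroup G) := fun i c hc =>
    (Subgroup.mem_normalizer_iff.1 (M.pow_mem P.xM i) c).1 hc.1
  have hS1 : Nat.card {s : G // s ∈ (S : Subgroup G) ∧ s ≠ 1} + 1 = N := by
    have := Set.ncard_sdiff_singleton_add_one (show (1 : G) ∈ ((S : Subgroup G) : Set G) from one_mem _) (Set.toFinite _)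
    rw [show ((S : Subgroup G) : Set G).ncard = N from (Nat.card_coe_set_eq _).symm] at this
    rw [← this]
    congr 1
  have hB1 : Nat.card {c : G // c ∈ B ∧ c ≠ 1} + 1 = b := by
    have := Set.ncard_sdiff_singleton_add_one (show (1 : G) ∈ (B : Set G) from one_mem _) (Set.toFinite _)
    rw [show (B : Set G).ncard = b from (Nat.card_coe_set_eq _).symm] at this
    rw [← this]
    congr 1
  have hid : N = r * (b - 1) + 1 := by
    let φ : Fin r × {c : G // c ∈ B ∧ c ≠ 1} → {s : G // s ∈ (S : Subgroup G) ∧ s ≠ 1} := fun p =>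
      ⟨x ^ (p.1 : ℕ) * p.2.1 * (x ^ (p.1 : ℕ))⁻¹, hconjB _ _ p.2.2.1, fun e => p.2.2.2 (conj_eq_one_iff.1 e)⟩
    have hφ : Function.Bijective φ := by
      refine ⟨?_, ?_⟩
      · rintro ⟨i, c⟩ ⟨i', c'⟩ e
        have e' : x ^ (i : ℕ) * c.1 * (x ^ (i : ℕ))⁻¹ = x ^ (i' : ℕ) * c'.1 * (x ^ (i' : ℕ))⁻¹ :=
          congrArg Subtype.val e
        set m := (r - i') + i with hm
        have hxm : x ^ m = (x ^ (i' : ℕ))⁻¹ * x ^ (i : ℕ) := by
          rw [hm, pow_add]
          congr 1
          exact (inv_eq_of_mul_eq_one_right (by rw [← pow_add, Nat.add_sub_cancel' i'.2.le, hxr])).symm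
        have hmem : x ^ m * c.1 * (x ^ m)⁻¹ = c'.1 := by
          rw [hxm, mul_inv_rev, inv_inv]
          calc (x ^ (i' : ℕ))⁻¹ * x ^ (i : ℕ) * c.1 * ((x ^ (i : ℕ))⁻¹ * x ^ (i' : ℕ))
              = (x ^ (i' : ℕ))⁻¹ * (x ^ (i : ℕ) * c.1 * (x ^ (i : ℕ))⁻¹) * x ^ (i' : ℕ) := by group
            _ = c'.1 := by rw [e']; group
        have hx1 : x ^ m = 1 := by
          by_contra hne
          exact c.2.2 (hdisj m hne c.1 c.2.1 (hmem.symm ▸ c'.2.1))
        have hii : i = i' := by
          have h1 : x ^ (i' : ℕ) = x ^ (i : ℕ) := inv_mul_eq_one.1 (hxm.symm.trans hx1)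
          exact Fin.ext (pow_injOn_Iio_orderOf (by rw [P.ox]; exact i.2) (by rw [P.ox]; exact i'.2) h1.symm)
        rw [hx1, one_mul, inv_one, mul_one] at hmem
        exact Prod.ext hii (Subtype.ext hmem)
      · rintro ⟨s, hs, hs1⟩
        obtain ⟨i, hi⟩ := hcover s hs hs1
        have hxi : x ^ (i % r) = x ^ i := by
          conv_rhs => rw [← Nat.mod_add_div i r, pow_add, pow_mul, hxr, one_pow, mul_one]
        refine ⟨(⟨i % r, Nat.mod_lt _ h.ord.hr.pos⟩, ⟨(x ^ i)⁻¹ * s * x ^ i, hi, fun e => hs1 ?_⟩), Subtype.ext ?_⟩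
        · have := congrArg (fun w => x ^ i * w * (x ^ i)⁻¹) e
          simpa [mul_assoc] using this
        · show x ^ (i % r) * ((x ^ i)⁻¹ * s * x ^ i) * (x ^ (i % r))⁻¹ = s
          rw [hxi]; group
    have := Nat.card_congr (Equiv.ofBijective φ hφ)
    rw [Nat.card_prod, Nat.card_fin] at this
    have h2 : Nat.card {c : G // c ∈ B ∧ c ≠ 1} = b - 1 := by omega
    rw [← h2, this, hS1]
  have hN4 : 2 ≤ N := by
    have := (Subgroup.one_lt_card_iff_ne_bot (S : Subgroup G)).2 h.ne_bot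
    exact this
  have hb2 : 2 ≤ b := by
    by_contra hlt
    have : b - 1 = 0 := by omega
    rw [this, mul_zero] at hid; omega
  have hbb : b * b ≤ N := by
    rw [hb, hN, ← Nat.card_prod]
    refine Nat.card_le_card_of_injective (fun p : B × B =>
      (⟨(p.1 : G) * (x * p.2 * x⁻¹), mul_mem p.1.2.1 (by simpa using hconjB 1 p.2 p.2.2)⟩ : (S : Subgroup G))) ?_
    rintro ⟨a, c⟩ ⟨a', c'⟩ e
    have e' : (a : G) * (x * c * x⁻¹) = a' * (x * c' * x⁻¹) := congrArg Subtype.val e
    have hz : (a' : G)⁻¹ * a = x * ((c' : G) * (c : G)⁻¹) * x⁻¹ := by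
      calc (a' : G)⁻¹ * a = (a' : G)⁻¹ * ((a : G) * (x * c * x⁻¹)) * (x * c * x⁻¹)⁻¹ := by group
        _ = _ := by rw [e']; group
    have h1 := hdisj 1 (by rw [pow_one]; exact fun e => h.ord.hr.ne_one (P.ox ▸ orderOf_eq_one_iff.2 e))
      _ (B.mul_mem c'.2 (B.inv_mem c.2)) (by rw [pow_one, ← hz]; exact B.mul_mem (B.inv_mem a'.2) a.2)
    have hcc : (c' : G) = c := mul_inv_eq_one.1 h1
    rw [hcc] at e'
    exact Prod.ext (Subtype.ext (mul_right_cancel e')) (Subtype.ext hcc.symm)
  -- centralizers of involutions in `S`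
  have hC : ∀ s ∈ (S : Subgroup G), s ≠ 1 → Nat.card (Subgroup.centralizer ({s} : Set G)) = N * q := by
    intro s hs hs1
    set K := Subgroup.centralizer ({s} : Set G)
    have h1 : Nat.card K ∣ N * r * q := P.card ▸ Subgroup.card_dvd_of_le (h.le s hs hs1)
    have h2 : N ∣ Nat.card K := Subgroup.card_dvd_of_le (sylow_le_centralizer h.ord S hs)
    obtain ⟨z, -, hzo, hzc⟩ := h.exists_q hs hs1
    have h3 : q ∣ Nat.card K := hzo ▸ Subgroup.orderOf_dvd_natCard K (Subgroup.mem_centralizer_singleton_iff.2 hzc.symm.eq)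
    have h4 : ¬ r ∣ Nat.card K := fun hd => by
      obtain ⟨⟨w, hw⟩, hwo⟩ := exists_prime_orderOf_dvd_card' r hd
      rw [Subgroup.orderOf_mk] at hwo
      exact hs1 (h.fpf hwo hs (Subgroup.mem_centralizer_singleton_iff.1 hw))
    have h5 : (Nat.card K).Coprime r := ((Nat.Prime.coprime_iff_not_dvd h.ord.hr).2 h4).symm
    refine Nat.dvd_antisymm (h5.dvd_of_dvd_mul_right (by rw [show N * q * r = N * r * q by ring]; exact h1)) ?_
    refine Nat.Coprime.mul_dvd_of_dvd_of_dvd ?_ h2 h3
    obtain ⟨k, hk⟩ := S.2.exists_card_eq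
    rw [hN, hk]
    exact Nat.Coprime.pow_left k ((Nat.coprime_primes Nat.prime_two h.ord.hq).2 h.ord.q2.symm)
  have key := inv_count S hsq (N * q) (N * q) hC
    (fun s hs hs1 => by rw [inf_eq_left.2 (h.le s hs hs1), hC s hs hs1])
  rw [P.card] at key
  have h2 : numOrd G 2 * (N * q) = Nat.card G * (b - 1) := by
    have e : Nat.card S - 1 = r * (b - 1) := by omega
    rw [e] at key
    refine Nat.eq_of_mul_eq_mul_right (show 0 < N * r * q by
      have := h.ord.hr.pos; have := h.ord.hq.pos; positivity) ?_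
    calc numOrd G 2 * (N * q) * (N * r * q) = numOrd G 2 * (N * q * (N * r * q)) := by ring
      _ = Nat.card G * (r * (b - 1)) * (N * q) := key
      _ = _ := by ring
  -- elements of order `q` commuting with an involution of `S`
  obtain ⟨s₀, hs₀, hs₀1⟩ := (Subgroup.bot_or_exists_ne_one B).resolve_left (fun e => by
    rw [hb, e, Subgroup.card_bot] at hb2; omega)
  set L := numQ q s₀ with hL
  have hLb : L * b ≤ (q - 1) * N := by
    have := card_le_of_conj (S : Subgroup G) (y := y) h.ord.hq.two_le {z : G | orderOf z = q ∧ Commute s₀ z} ?_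
    · exact this
    rintro z ⟨hzo, hzc⟩
    have hzM : z ∈ M := h.le s₀ hs₀.1 hs₀1 (Subgroup.mem_centralizer_singleton_iff.2 hzc.symm.eq)
    obtain ⟨a, ha, i, j, hj1, hjq, rfl⟩ := P.conj z hzM hzo
    have hxi : x ^ i = 1 := by
      by_contra hne
      have hfix : ∀ hm : (x ^ i)⁻¹ * s₀ * x ^ i ∈ B, False := fun hm => by
        have e := hdisj i hne _ hm (by
          rw [show x ^ i * ((x ^ i)⁻¹ * s₀ * x ^ i) * (x ^ i)⁻¹ = s₀ by group]; exact hs₀)
        have := congrArg (fun w => x ^ i * w * (x ^ i)⁻¹) e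
        exact hs₀1 (by simpa [mul_assoc] using this)
      refine hfix ?_
      refine Subgroup.mem_inf.2 ⟨?_, Subgroup.mem_centralizer_singleton_iff.2 (hypow hj1 hjq ?_).eq⟩
      · have := (Subgroup.mem_normalizer_iff.1 (M.inv_mem (M.pow_mem P.xM i)) s₀).1 hs₀.1
        rwa [inv_inv] at this
      · have h1 := hzc.map (MulAut.conj (a * x ^ i)⁻¹).toMonoidHom
        have h3 : a⁻¹ * s₀ * a = s₀ := by rw [mul_assoc, (commute_of_sq hsq hs₀.1 ha).eq, inv_mul_cancel_left]
        simp only [MulEquiv.coe_toMonoidHom, MulAut.conj_apply, inv_inv] at h1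
        rwa [show (a * x ^ i)⁻¹ * (a * x ^ i * y ^ j * (a * x ^ i)⁻¹) * (a * x ^ i) = y ^ j by group,
          show (a * x ^ i)⁻¹ * s₀ * (a * x ^ i) = (x ^ i)⁻¹ * (a⁻¹ * s₀ * a) * x ^ i by group, h3] at h1
    exact ⟨a, ha, j, hj1, hjq, by rw [hxi, mul_one]⟩
  have hLall : ∀ t : G, orderOf t = 2 → numQ q t ≤ L := fun t ht => by
    obtain ⟨f, hf⟩ := h.ord.conj s₀ t ((orderOf_of_mem h.ord S hs₀.1 hs₀1).trans ht.symm)
    rw [← hf, numQ_map]
  obtain ⟨h2q', -⟩ := num_two_q_le h.ord hLall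
  have h2q : numOrd G (2 * q) * (b * q) ≤ Nat.card G * (b - 1) * (q - 1) := by
    rw [← h2]
    calc numOrd G (2 * q) * (b * q) ≤ numOrd G 2 * L * (b * q) := Nat.mul_le_mul_right _ h2q'
      _ = numOrd G 2 * q * (L * b) := by ring
      _ ≤ numOrd G 2 * q * ((q - 1) * N) := Nat.mul_le_mul_left _ hLb
      _ = _ := by ring
  -- all elements of order `q`
  set Cy := Subgroup.centralizer ({y} : Set G) with hCy
  have hqall : numOrd G q * Nat.card Cy ≤ (q - 1) * Nat.card G := by
    have := card_le_of_conj (⊤ : Subgroup G) (y := y) h.ord.hq.two_le {z : G | orderOf z = q} ?_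
    · rw [top_inf_eq, Subgroup.card_top] at this; exact this
    intro z hz
    obtain ⟨t, ht, htc⟩ := exists_commute_two h.ord hz
    obtain ⟨g, hg⟩ := exists_conj_mem_sylow S (x := t) (k := 1) (by rw [ht, pow_one])
    have hs1 : g⁻¹ * t * g ≠ 1 := fun e => by
      have : t = 1 := by
        have := congrArg (fun w => g * w * g⁻¹) e
        simpa [mul_assoc] using this
      rw [this, orderOf_one] at ht; omega
    have hc : Commute (g⁻¹ * t * g) (g⁻¹ * z * g) := by
      simpa [MulAut.conj_apply] using htc.map (MulAut.conj g⁻¹).toMonoidHom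
    have hzg : orderOf (g⁻¹ * z * g) = q := by
      rw [← hz]; simpa using MulEquiv.orderOf_eq (MulAut.conj g⁻¹) z
    obtain ⟨a, ha, i, j, hj1, hjq, e⟩ := P.conj _ (h.le _ hg hs1 (Subgroup.mem_centralizer_singleton_iff.2 hc.symm.eq)) hzg
    refine ⟨g * (a * x ^ i), Subgroup.mem_top _, j, hj1, hjq, ?_⟩
    calc z = g * (g⁻¹ * z * g) * g⁻¹ := by group
      _ = _ := by rw [e]; group
  have hBy : b * q ∣ Nat.card Cy := by
    refine Nat.Coprime.mul_dvd_of_dvd_of_dvd ?_ (Subgroup.card_dvd_of_le inf_le_right)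
      (P.oy ▸ Subgroup.orderOf_dvd_natCard Cy (Subgroup.mem_centralizer_singleton_iff.2 rfl))
    obtain ⟨k, hk⟩ := (S.2.to_le (inf_le_left : B ≤ (S : Subgroup G))).exists_card_eq
    rw [hb, hk]
    exact Nat.Coprime.pow_left k ((Nat.coprime_primes Nat.prime_two h.ord.hq).2 h.ord.q2.symm)
  obtain ⟨v, hv⟩ := hBy
  rw [hv] at hqall
  have hq3 : 3 ≤ q := by have := h.ord.hq.two_le; have := h.ord.q2; omega
  have hr3 : 3 ≤ r := by have := h.ord.hr.two_le; have := h.ord.r2; omega
  have hMG : N * r * q ∣ Nat.card G := P.card ▸ Subgroup.card_subgroup_dvd_card M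
  have hG4 : 4 * q < Nat.card G := by
    have h1 := Nat.le_of_dvd Nat.card_pos hMG
    have h2 : 2 * 3 * q ≤ N * r * q := Nat.mul_le_mul_right _ (Nat.mul_le_mul hN4 hr3)
    omega
  -- the elements of order `r`
  obtain ⟨R⟩ : Nonempty (Sylow r G) := inferInstance
  obtain ⟨hle, hsur⟩ := r_count R h.ord.dvd_card.2.2 (fun g hg => isPGroup_centralizer (r_alone h.ord) hg)
    (fun a c ha hc => h.ord.conj a c (ha.trans hc.symm))
  set NR := Subgroup.normalizer ((R : Subgroup G) : Set G)
  set Z := Subgroup.center (R : Subgroup G)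
  have hqR : q ∣ Nat.card NR := by
    obtain ⟨k, hk⟩ := hsur x P.ox
    have hyn : y ∈ Subgroup.normalizer ((conjS k (R : Subgroup G) : Subgroup G) : Set G) := by
      rw [← hk, ← FiveOrders.conjS_eq_iff_mem_normalizer, ← FiveOrders.centralizer_conj]
      obtain ⟨l, hl⟩ := Subgroup.mem_zpowers_iff.1 P.norm
      refine Subgroup.eq_of_le_of_card_ge ?_ (le_of_eq ?_) |>.symm
      · intro w hw
        refine Subgroup.mem_centralizer_singleton_iff.2 ?_
        rw [← hl]
        exact ((show Commute w x from Subgroup.mem_centralizer_singleton_iff.1 hw).zpow_right l).eq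
      · rw [show y * x * y⁻¹ = (MulAut.conj y) x from rfl, card_centralizer_map]
    rw [← P.oy]
    have hm : k⁻¹ * y * k ∈ NR := FiveOrders.conjS_eq_iff_mem_normalizer.1 (by
      rw [← FiveOrders.conjS_conjS, ← FiveOrders.conjS_conjS, FiveOrders.conjS_eq_iff_mem_normalizer.2 hyn,
        FiveOrders.conjS_conjS, inv_mul_cancel, FiveOrders.conjS_one])
    have ho := Subgroup.orderOf_dvd_natCard NR hm
    rwa [show orderOf (k⁻¹ * y * k) = orderOf y by simpa using MulEquiv.orderOf_eq (MulAut.conj k⁻¹) y] at ho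
  have hRdvd : Nat.card R ∣ Nat.card NR := Subgroup.card_dvd_of_le Subgroup.le_normalizer
  have hqcopR : (Nat.card R).Coprime q := by
    obtain ⟨k, hk⟩ := R.2.exists_card_eq
    rw [hk]
    exact Nat.Coprime.pow_left k ((Nat.coprime_primes h.ord.hr h.ord.hq).2 h.ord.qr.symm)
  obtain ⟨j, hj⟩ : Nat.card R * q ∣ Nat.card NR := hqcopR.mul_dvd_of_dvd_of_dvd hRdvd hqR
  have hj0 : 1 ≤ j := Nat.one_le_iff_ne_zero.2 fun e => by
    rw [e, mul_zero] at hj; exact Nat.card_pos.ne' hj
  obtain ⟨e, he⟩ : Nat.card Z ∣ Nat.card R := Subgroup.card_subgroup_dvd_card Z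
  have hZ0 : 0 < Nat.card Z := Nat.card_pos
  have he1 : 1 ≤ e := Nat.one_le_iff_ne_zero.2 fun h0 => by rw [h0, mul_zero] at he; exact Nat.card_pos.ne' he
  have hnr : numOrd G r * (e * q * j) * Nat.card Z + Nat.card G ≤ Nat.card G * Nat.card Z := by
    rw [hj, he] at hle
    rw [show numOrd G r * (e * q * j) * Nat.card Z = numOrd G r * (Nat.card Z * e * q * j) by ring]
    exact hle
  have hpart := partition h.ord
  by_cases hsquare : q ^ 2 ∣ Nat.card G
  · -- `v ≥ q`
    obtain ⟨Q⟩ : Nonempty (Sylow q G) := inferInstance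
    haveI : Nontrivial (Q : Subgroup G) := by
      rw [← Finite.one_lt_card_iff_nontrivial]
      exact lt_of_lt_of_le h.ord.hq.one_lt (Nat.le_of_dvd Nat.card_pos (Q.dvd_card_of_dvd_card h.ord.dvd_card.2.1))
    haveI := Q.2.center_nontrivial
    obtain ⟨n, hn, hnc⟩ := (Q.2.to_subgroup (Subgroup.center (Q : Subgroup G))).nontrivial_iff_card.1 inferInstance
    obtain ⟨z, hz⟩ := exists_prime_orderOf_dvd_card' (G := Subgroup.center (Q : Subgroup G)) q
      (hnc ▸ dvd_pow_self q hn.ne')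
    have hzo : orderOf ((z : (Q : Subgroup G)) : G) = q := by rw [Subgroup.orderOf_coe, Subgroup.orderOf_coe, hz]
    have hQz : (Q : Subgroup G) ≤ Subgroup.centralizer ({((z : (Q : Subgroup G)) : G)} : Set G) := fun w hw =>
      Subgroup.mem_centralizer_singleton_iff.2 (congrArg Subtype.val (Subgroup.mem_center_iff.1 z.2 ⟨w, hw⟩) :)
    have h1 : q ^ 2 ∣ Nat.card Cy := by
      rw [hCy, card_centralizer_eq h.ord (P.oy.trans hzo.symm)]
      refine dvd_trans ?_ (Subgroup.card_dvd_of_le hQz)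
      rw [Q.card_eq_multiplicity]
      exact pow_dvd_pow q ((Nat.Prime.pow_dvd_iff_le_factorization h.ord.hq Nat.card_pos.ne').1 hsquare)
    have hqv : q ≤ v := by
      have h2 : q ∣ b * v := by
        rw [hv, show b * q * v = q * (b * v) by ring, pow_two] at h1
        exact (Nat.mul_dvd_mul_iff_left h.ord.hq.pos).1 h1
      obtain ⟨k, hk⟩ := (S.2.to_le (inf_le_left : B ≤ (S : Subgroup G))).exists_card_eq
      have h3 : q ∣ v := (h.ord.hq.dvd_mul.1 h2).resolve_left fun hd => h.ord.q2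
        ((Nat.prime_dvd_prime_iff_eq h.ord.hq Nat.prime_two).1 (h.ord.hq.dvd_of_dvd_pow
          (show q ∣ 2 ^ k by rw [← hk]; exact hd)))
      refine Nat.le_of_dvd (Nat.pos_of_ne_zero fun h0 => ?_) h3
      rw [h0, mul_zero] at hv; exact Nat.card_pos.ne' hv
    refine arith_square hpart h2 h2q hqall ?_ ?_ (by omega) ?_ (by omega) (show 3 ≤ v by omega) hq3
    · rw [← hv]; exact Nat.le_of_dvd Nat.card_pos (Subgroup.card_subgroup_dvd_card Cy)
    · have h4 : q * numOrd G r * Nat.card Z ≤ numOrd G r * (e * q * j) * Nat.card Z := by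
        refine Nat.mul_le_mul_right _ ?_
        rw [mul_comm q]
        refine Nat.mul_le_mul_left _ ?_
        calc q = 1 * q * 1 := by ring
          _ ≤ e * q * j := Nat.mul_le_mul (Nat.mul_le_mul_right _ he1) hj0
      by_contra hlt
      push Not at hlt
      have h5 : Nat.card G * Nat.card Z ≤ q * numOrd G r * Nat.card Z := Nat.mul_le_mul_right _ (by omega)
      have : 0 < Nat.card G := Nat.card_pos
      omega
    · exact le_trans (Nat.mul_le_mul_left _ (Nat.sub_le _ _)) hbb
  · by_cases hlarge : 2 ≤ e * j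
    · refine arith_large hpart h2 h2q ?_ ?_ hG4 (by omega) hbb hq3
      · refine le_trans (Nat.mul_le_mul_left _ ?_) hqall
        exact Nat.le_mul_of_pos_right _ (Nat.pos_of_ne_zero fun h0 => by
          rw [h0, mul_zero] at hv; exact Nat.card_pos.ne' hv)
      · refine Nat.le_of_mul_le_mul_right ?_ hZ0
        refine le_trans ?_ (le_trans (Nat.le_add_right _ _) hnr)
        refine Nat.mul_le_mul_right _ ?_
        rw [show numOrd G r * (e * q * j) = e * j * q * numOrd G r by ring]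
        exact Nat.mul_le_mul_right _ (Nat.mul_le_mul_right _ hlarge)
    · have hej : e * j = 1 := by
        have : 0 < e * j := by positivity
        omega
      obtain ⟨rfl, rfl⟩ := mul_eq_one.1 hej
      rw [mul_one] at he
      rw [mul_one] at hj
      have hRab : Z = ⊤ := Subgroup.eq_top_of_card_eq _ he.symm
      have hab : ∀ a ∈ (R : Subgroup G), ∀ c ∈ (R : Subgroup G), a * c = c * a := fun a ha c hc =>
        (congrArg Subtype.val (Subgroup.mem_center_iff.1 (hRab ▸ Subgroup.mem_top (⟨c, hc⟩ : (R : Subgroup G))) ⟨a, ha⟩) :)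
      have hord : ∀ g ∈ (R : Subgroup G), g ≠ 1 → orderOf g = r := by
        intro g hg hg1
        obtain ⟨i, hi⟩ := IsPGroup.iff_orderOf.1 R.2 ⟨g, hg⟩
        rw [Subgroup.orderOf_mk] at hi
        rcases i with _ | _ | i
        · exact absurd (orderOf_eq_one_iff.1 (by rw [hi, pow_zero])) hg1
        · rw [hi, zero_add, pow_one]
        · exfalso
          have hm := dvd_mem_spec (mem_spec g) (show r ^ 2 ∣ orderOf g by rw [hi]; exact pow_dvd_pow r (by omega))
          exact mul_notMem h.ord h.ord.hr h.ord.hr (fun e => h.ord.r2 e.1) (fun e => h.ord.r2 e.2) (pow_two r ▸ hm)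
      have hcentR : ∀ g ∈ (R : Subgroup G), g ≠ 1 → Subgroup.centralizer ({g} : Set G) = R := by
        intro g hg hg1
        obtain ⟨k, hk⟩ := hsur g (hord g hg hg1)
        refine (Subgroup.eq_of_le_of_card_ge ?_ ?_).symm
        · exact fun c hc => Subgroup.mem_centralizer_singleton_iff.2 (hab c hc g hg)
        · rw [hk, card_conjS]
      have hPab : ∀ (P' : Sylow r G), ∀ a ∈ (P' : Subgroup G), ∀ c ∈ (P' : Subgroup G), a * c = c * a := by
        intro P' a ha c hc
        obtain ⟨g, rfl⟩ := MulAction.exists_smul_eq G R P'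
        rw [Sylow.coe_subgroup_smul, Subgroup.mem_pointwise_smul_iff_inv_smul_mem, ← map_inv, MulAut.smul_def,
          MulAut.conj_apply, inv_inv] at ha hc
        have := hab _ ha _ hc
        calc a * c = g * ((g⁻¹ * a * g) * (g⁻¹ * c * g)) * g⁻¹ := by group
          _ = g * ((g⁻¹ * c * g) * (g⁻¹ * a * g)) * g⁻¹ := by rw [this]
          _ = c * a := by group
      have hdv := card_dvd_sylow_sub_one R (fun P' hne g hg hgP => by
          by_contra hg1
          apply hne
          refine Sylow.ext (Subgroup.eq_of_le_of_card_ge ?_ (le_of_eq ?_))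
          · rw [← hcentR g hg hg1]
            exact fun c hc => Subgroup.mem_centralizer_singleton_iff.2 (hPab P' c hc g hgP)
          · rw [P'.card_eq_multiplicity, R.card_eq_multiplicity])
        (fun P' g hg hfix => by
          have hgn := Sylow.smul_eq_iff_mem_normalizer.1 hfix
          have hsup : IsPGroup r ((P' : Subgroup G) ⊔ Subgroup.zpowers g : Subgroup G) :=
            P'.2.to_sup_of_normal_left' (R.2.to_le (Subgroup.zpowers_le.2 hg)) (Subgroup.zpowers_le.2 hgn)
          exact (P'.3 hsup le_sup_left).le (Subgroup.mem_sup_right (Subgroup.mem_zpowers g)))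
      have hGc : Nat.card G = N * Nat.card R * q := by
        obtain ⟨Q⟩ : Nonempty (Sylow q G) := inferInstance
        have hG0 : Nat.card G ≠ 0 := Nat.card_pos.ne'
        have hQ : (Nat.card G).factorization q = 1 := by
          refine le_antisymm ?_ ((Nat.Prime.dvd_iff_one_le_factorization h.ord.hq hG0).1 h.ord.dvd_card.2.1)
          by_contra hlt
          exact hsquare ((Nat.Prime.pow_dvd_iff_le_factorization h.ord.hq hG0).2 (by omega))
        conv_lhs => rw [← Nat.prod_factorization_pow_eq_self hG0]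
        rw [Finsupp.prod_of_support_subset _ (s := ({2, r, q} : Finset ℕ)) (by
            intro p hp'
            rw [Nat.support_factorization, Nat.mem_primeFactors] at hp'
            rcases h.ord.prime_cases hmc hp'.1 hp'.2.1 with e | e | e <;> simp [e]) _ (fun _ _ => pow_zero _),
          Finset.prod_insert (by simp [h.ord.r2.symm, h.ord.q2.symm]), Finset.prod_pair h.ord.qr.symm, hQ, pow_one,
          hN, S.card_eq_multiplicity, R.card_eq_multiplicity, mul_assoc]
      have hsyl : Nat.card (Sylow r G) = N := by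
        rw [Sylow.card_eq_index_normalizer R]
        have h5 := NR.card_mul_index
        rw [hj, hGc] at h5
        exact Nat.eq_of_mul_eq_mul_left (Nat.mul_pos Nat.card_pos h.ord.hq.pos) (h5.trans (by ring))
      rw [hsyl] at hdv
      rw [show N - 1 = r * (b - 1) by omega] at hdv
      obtain ⟨k, hk⟩ := R.2.exists_card_eq
      rw [hk] at hdv
      have hk1 : k = 1 := by
        rcases k with _ | _ | k
        · have := R.dvd_card_of_dvd_card h.ord.dvd_card.2.2
          rw [hk, pow_zero, Nat.dvd_one] at this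
          exact absurd this h.ord.hr.ne_one
        · rfl
        · exfalso
          have h6 : r * r ∣ r * (b - 1) :=
            (show r * r ∣ r ^ (k + 1 + 1) from ⟨r ^ k, by ring⟩).trans hdv
          have h7 := Nat.le_of_dvd (by omega) ((Nat.mul_dvd_mul_iff_left h.ord.hr.pos).1 h6)
          have h8 : r * (b - 1) ≤ (b - 1) * (b - 1) := Nat.mul_le_mul_right _ h7
          obtain ⟨c, hc⟩ : ∃ c, b = c + 1 := ⟨b - 1, by omega⟩
          rw [hc, Nat.add_sub_cancel] at h8 hid
          rw [hc] at hbb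
          nlinarith
      rw [hk, hk1, pow_one] at hGc
      have htop : M = ⊤ := Subgroup.eq_top_of_card_eq _ (by rw [P.card, hGc])
      haveI : (S : Subgroup G).Normal := Subgroup.normalizer_eq_top_iff.1 htop
      rcases IsSimpleGroup.eq_bot_or_eq_top_of_normal (S : Subgroup G) inferInstance with h1 | h1
      · exact h.ne_bot h1
      · apply hns
        have hS := S.2
        rw [h1] at hS
        haveI := hS.isNilpotent
        exact Group.isSolvable_of_surjective (f := (⊤ : Subgroup G).subtype) fun w => ⟨⟨w, Subgroup.mem_top w⟩, rfl⟩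

end Cfsg.Agent.GroupStructure3.FiveOrbits.TwoQ
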