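import Cfsg.Agent.GroupStructure3.FiveOrbits.TwoQ.Tools
import Cfsg.Agent.Lib.Cores.Basic

/-!
# The spectrum `{1, 2, q, r, 2q}`: basic facts
-/

set_option autoImplicit false

namespace Cfsg.Agent.GroupStructure3.FiveOrbits.TwoQ

open FiveOrders (conjS mem_conjS card_conjS commute_of_sq)

universe u

variable {G : Type u} [Group G] [Finite G] {q r : ℕ}

theorem four_notMem (h : Orders G q r (2 * q)) : 4 ∉ spec G := by
  rw [h.spec_eq]
  simp only [Set.mem_insert_iff, Set.mem_singleton_iff, not_or]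
  refine ⟨by norm_num, by norm_num, fun e => ?_, fun e => ?_, fun e => h.q2 (by omega)⟩
  · exact absurd (e ▸ h.hq) (by norm_num)
  · exact absurd (e ▸ h.hr) (by norm_num)

theorem mul_notMem (h : Orders G q r (2 * q)) {s t : ℕ} (hs : s.Prime) (ht : t.Prime)
    (hne : ¬ (s = 2 ∧ t = q)) (hne' : ¬ (s = q ∧ t = 2)) : s * t ∉ spec G := by
  rw [h.spec_eq]
  simp only [Set.mem_insert_iff, Set.mem_singleton_iff, not_or]
  refine ⟨fun e => hs.ne_one (mul_eq_one.1 e).1, fun e => Nat.not_prime_mul hs.ne_one ht.ne_one (e ▸ Nat.prime_two),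
    fun e => Nat.not_prime_mul hs.ne_one ht.ne_one (e ▸ h.hq),
    fun e => Nat.not_prime_mul hs.ne_one ht.ne_one (e ▸ h.hr), fun e => ?_⟩
  have h2 : 2 ∣ s * t := ⟨q, e⟩
  rcases (Nat.Prime.dvd_mul Nat.prime_two).1 h2 with h2 | h2
  · have := (Nat.prime_dvd_prime_iff_eq Nat.prime_two hs).1 h2
    subst this
    exact hne ⟨rfl, by omega⟩
  · have := (Nat.prime_dvd_prime_iff_eq Nat.prime_two ht).1 h2
    subst this
    exact hne' ⟨by omega, rfl⟩

theorem r_alone (h : Orders G q r (2 * q)) : ∀ s : ℕ, s.Prime → s ≠ r → r * s ∉ spec G := fun _ hs _ =>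
  mul_notMem h h.hr hs (fun e => h.r2 e.1) (fun e => h.qr e.1.symm)

theorem sq_eq_one (h : Orders G q r (2 * q)) {x : G} {k : ℕ} (hx : x ^ 2 ^ k = 1) : x * x = 1 := by
  obtain ⟨j, -, hj⟩ := (Nat.dvd_prime_pow Nat.prime_two).1 (orderOf_dvd_of_pow_eq_one hx)
  rw [← pow_two, ← orderOf_dvd_iff_pow_eq_one, hj]
  rcases j with _ | _ | j
  · simp
  · simp
  · exact absurd (dvd_mem_spec (mem_spec x) (hj ▸ (pow_dvd_pow 2 (show 2 ≤ j + 1 + 1 by omega)))) (four_notMem h)

theorem sylow_sq (h : Orders G q r (2 * q)) (S : Sylow 2 G) : ∀ a ∈ (S : Subgroup G), a * a = 1 := by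
  intro a ha
  obtain ⟨k, hk⟩ := S.2 ⟨a, ha⟩
  exact sq_eq_one h (congrArg Subtype.val hk : a ^ 2 ^ k = 1)

/-- The centralizer of an involution has elements of order `1, 2, q, 2q` only. -/
theorem centralizer_orders (h : Orders G q r (2 * q)) {t c : G} (ht : orderOf t = 2) (hc : Commute c t) :
    orderOf c = 1 ∨ orderOf c = 2 ∨ orderOf c = q ∨ orderOf c = 2 * q := by
  rcases h.cases c with e | e | e | e | e
  · exact Or.inl e
  · exact Or.inr (Or.inl e)
  · exact Or.inr (Or.inr (Or.inl e))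
  · exact absurd hc.symm (not_commute Nat.prime_two h.hr h.r2.symm
      (mul_notMem h Nat.prime_two h.hr (fun x => h.qr x.2.symm) (fun x => h.q2 x.1.symm)) ht e)
  · exact Or.inr (Or.inr (Or.inr e))

theorem odd_q (h : Orders G q r (2 * q)) : Odd q := h.hq.odd_of_ne_two h.q2

theorem pow_parts (h : Orders G q r (2 * q)) {u : G} (hu : orderOf u = 2 * q) :
    orderOf (u ^ q) = 2 ∧ orderOf (u ^ 2) = q ∧ Commute (u ^ q) (u ^ 2) :=
  ⟨by rw [orderOf_pow' _ h.hq.ne_zero, hu, Nat.gcd_mul_left_left, Nat.mul_div_cancel _ h.hq.pos],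
    by rw [orderOf_pow' _ two_ne_zero, hu, Nat.gcd_mul_right_left, Nat.mul_div_cancel_left _ two_pos],
    (Commute.refl u).pow_pow q 2⟩

theorem orderOf_mul_pair (h : Orders G q r (2 * q)) {t y : G} (ht : orderOf t = 2) (hy : orderOf y = q)
    (hc : Commute t y) : orderOf (t * y) = 2 * q ∧ (t * y) ^ q = t := by
  refine ⟨by rw [hc.orderOf_mul_eq_mul_orderOf_of_coprime
    (by rw [ht, hy]; exact (Nat.coprime_primes Nat.prime_two h.hq).2 h.q2.symm), ht, hy], ?_⟩
  obtain ⟨k, hk⟩ := odd_q h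
  have h2 : t ^ 2 = 1 := by rw [← ht]; exact pow_orderOf_eq_one t
  have h3 : t ^ q = t := by rw [hk, pow_succ, pow_mul, h2, one_pow, one_mul]
  rw [hc.mul_pow, h3, show y ^ q = 1 by rw [← hy]; exact pow_orderOf_eq_one y, mul_one]

/-- `C(t y) ≤ C(t) ∩ C(y)`. -/
theorem centralizer_pair_le (h : Orders G q r (2 * q)) {t y c : G} (ht : orderOf t = 2) (hy : orderOf y = q)
    (hc : Commute t y) (hcu : c ∈ Subgroup.centralizer ({t * y} : Set G)) : Commute c t ∧ Commute c y := by
  have h1 : Commute c (t * y) := Subgroup.mem_centralizer_singleton_iff.1 hcu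
  have h2 : Commute c t := (orderOf_mul_pair h ht hy hc).2 ▸ h1.pow_right q
  refine ⟨h2, ?_⟩
  have := (h2.inv_right).mul_right h1
  rwa [inv_mul_cancel_left] at this

/-- Every involution commutes with an element of order `q`. -/
theorem exists_commute_q (h : Orders G q r (2 * q)) {t : G} (ht : orderOf t = 2) :
    ∃ y : G, orderOf y = q ∧ Commute t y := by
  obtain ⟨u, hu⟩ : 2 * q ∈ spec G := by rw [h.spec_eq]; simp
  obtain ⟨h1, h2, h3⟩ := pow_parts h hu
  obtain ⟨f, hf⟩ := h.conj _ t (h1.trans ht.symm)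
  exact ⟨f (u ^ 2), by rw [MulEquiv.orderOf_eq, h2], hf ▸ h3.map f.toMonoidHom⟩

/-- Every element of order `q` commutes with an involution. -/
theorem exists_commute_two (h : Orders G q r (2 * q)) {y : G} (hy : orderOf y = q) :
    ∃ t : G, orderOf t = 2 ∧ Commute t y := by
  obtain ⟨u, hu⟩ : 2 * q ∈ spec G := by rw [h.spec_eq]; simp
  obtain ⟨h1, h2, h3⟩ := pow_parts h hu
  obtain ⟨f, hf⟩ := h.conj _ y (h2.trans hy.symm)
  exact ⟨f (u ^ q), by rw [MulEquiv.orderOf_eq, h1], hf ▸ h3.map f.toMonoidHom⟩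

/-- A 2-subgroup of `C(t)` is conjugate into `S` within `C(t)`, for `S ≤ C(t)`. -/
theorem exists_conj_in (S : Sylow 2 G) {K : Subgroup G} (hK : (S : Subgroup G) ≤ K) {P : Subgroup G}
    (hP : IsPGroup 2 P) (hPK : P ≤ K) : ∃ a ∈ K, ∀ x ∈ P, a⁻¹ * x * a ∈ (S : Subgroup G) := by
  haveI : Fact (Nat.Prime 2) := ⟨Nat.prime_two⟩
  obtain ⟨a, ha⟩ := FiveOrders.exists_conj_le (U := (S : Subgroup G).subgroupOf K) (X := P.subgroupOf K)
    (S.2.of_equiv (Subgroup.subgroupOfEquivOfLe hK).symm)
    (fun Y hY hle => by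
      have hY' : IsPGroup 2 (Y.map K.subtype) := hY.map _
      have he : Y.map K.subtype = S := S.3 hY' (fun x hx => ⟨⟨x, hK hx⟩, hle hx, rfl⟩)
      intro y hy
      exact Subgroup.mem_subgroupOf.2 (he ▸ Subgroup.mem_map_of_mem _ hy))
    (hP.of_equiv (Subgroup.subgroupOfEquivOfLe hPK).symm)
  exact ⟨a, a.2, fun x hx => Subgroup.mem_subgroupOf.1 (mem_conjS.1 (ha (x := ⟨x, hPK hx⟩) hx))⟩

theorem sylow_le_centralizer (h : Orders G q r (2 * q)) (S : Sylow 2 G) {s : G} (hs : s ∈ (S : Subgroup G)) :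
    (S : Subgroup G) ≤ Subgroup.centralizer ({s} : Set G) := fun _ hx =>
  Subgroup.mem_centralizer_singleton_iff.2 (commute_of_sq (sylow_sq h S) hx hs).eq

theorem orderOf_of_mem (h : Orders G q r (2 * q)) (S : Sylow 2 G) {s : G} (hs : s ∈ (S : Subgroup G))
    (hs1 : s ≠ 1) : orderOf s = 2 := orderOf_eq_prime (by rw [pow_two]; exact sylow_sq h S s hs) hs1

/-- Automorphisms fixing `S` are transitive on its involutions. -/
theorem exists_aut (h : Orders G q r (2 * q)) (S : Sylow 2 G) {s s' : G} (hs : s ∈ (S : Subgroup G))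
    (hs1 : s ≠ 1) (hs' : s' ∈ (S : Subgroup G)) (hs1' : s' ≠ 1) :
    ∃ f : MulAut G, f s = s' ∧ (S : Subgroup G).map f.toMonoidHom = S := by
  obtain ⟨f, hf⟩ := h.conj s s' ((orderOf_of_mem h S hs hs1).trans (orderOf_of_mem h S hs' hs1').symm)
  obtain ⟨a, ha, hconj⟩ := exists_conj_in S (sylow_le_centralizer h S hs') (S.2.map f.toMonoidHom)
    (by
      rintro _ ⟨x, hx, rfl⟩
      refine Subgroup.mem_centralizer_singleton_iff.2 ?_
      rw [← hf]
      show f x * f s = f s * f x
      rw [← map_mul, ← map_mul, (commute_of_sq (sylow_sq h S) hx hs).eq])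
  refine ⟨f.trans (MulAut.conj a⁻¹), ?_, ?_⟩
  · show MulAut.conj a⁻¹ (f s) = s'
    rw [hf, MulAut.conj_apply, inv_inv]
    have e : a * s' = s' * a := Subgroup.mem_centralizer_singleton_iff.1 ha
    rw [mul_assoc, ← e, inv_mul_cancel_left]
  · refine Subgroup.eq_of_le_of_card_ge ?_ ?_
    · rintro _ ⟨x, hx, rfl⟩
      show MulAut.conj a⁻¹ (f x) ∈ (S : Subgroup G)
      rw [MulAut.conj_apply, inv_inv]
      exact hconj _ ⟨x, hx, rfl⟩
    · rw [Subgroup.card_map_of_injective]
      exact (f.trans (MulAut.conj a⁻¹)).injective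

theorem map_centralizer (f : MulAut G) (s : G) :
    (Subgroup.centralizer ({s} : Set G)).map f.toMonoidHom = Subgroup.centralizer ({f s} : Set G) := by
  ext x
  rw [Subgroup.mem_map_equiv]
  simp only [Subgroup.mem_centralizer_singleton_iff]
  exact ⟨fun e => by simpa using congrArg f e, fun e => by simpa using congrArg f.symm e⟩

theorem map_normalizer (f : MulAut G) (H : Subgroup G) :
    (Subgroup.normalizer (H : Set G)).map f.toMonoidHom = Subgroup.normalizer ((H.map f.toMonoidHom : Subgroup G) : Set G) :=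
  Subgroup.map_normalizer_eq_of_bijective H f.bijective

theorem card_centralizer_eq (h : Orders G q r (2 * q)) {a b : G} (hab : orderOf a = orderOf b) :
    Nat.card (Subgroup.centralizer ({a} : Set G)) = Nat.card (Subgroup.centralizer ({b} : Set G)) := by
  obtain ⟨f, rfl⟩ := h.conj a b hab
  exact (card_centralizer_map f a).symm

/-- The number of commuting elements of order `q`. -/
noncomputable def numQ (q : ℕ) (t : G) : ℕ := Nat.card {y : G // orderOf y = q ∧ Commute t y}

theorem numQ_map (f : MulAut G) (t : G) : numQ q (f t) = numQ q t := by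
  refine (Nat.card_congr (f.toEquiv.subtypeEquiv fun y => ?_)).symm
  show orderOf y = q ∧ Commute t y ↔ orderOf (f y) = q ∧ Commute (f t) (f y)
  rw [MulEquiv.orderOf_eq]
  exact and_congr_right fun _ => ⟨fun e => e.map f.toMonoidHom, fun e => by
    simpa using e.map f.symm.toMonoidHom⟩

/-- The class equation. -/
theorem partition (h : Orders G q r (2 * q)) :
    Nat.card G = 1 + numOrd G 2 + numOrd G q + numOrd G r + numOrd G (2 * q) := by
  classical
  haveI := Fintype.ofFinite G
  have hnum : ∀ n, numOrd G n = (Finset.univ.filter fun g : G => orderOf g = n).card := fun n => by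
    rw [numOrd, Nat.card_eq_fintype_card, Fintype.card_subtype]
  have h1 : (Finset.univ.filter fun g : G => orderOf g = 1).card = 1 := by
    rw [Finset.card_eq_one]; exact ⟨1, by ext; simp⟩
  have := Finset.card_eq_sum_card_fiberwise (f := fun g : G => orderOf g) (s := Finset.univ)
    (t := ({1, 2, q, r, 2 * q} : Finset ℕ)) (fun g _ => by simpa using h.cases g)
  rw [Nat.card_eq_fintype_card, ← Finset.card_univ, this]
  have hq2 := h.q2; have hr2 := h.r2; have hqr := h.qr
  have hq1 := h.hq.one_lt; have hr1 := h.hr.one_lt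
  have hr2q : r ≠ 2 * q := fun e => Nat.not_prime_mul (by norm_num) h.hq.ne_one (e ▸ h.hr)
  rw [Finset.sum_insert (by simp; omega), Finset.sum_insert (by simp; omega),
    Finset.sum_insert (by simp; omega), Finset.sum_insert (by simp; omega), Finset.sum_singleton, h1,
    ← hnum, ← hnum, ← hnum, ← hnum]
  ring

/-- Elements of order `2q` against commuting pairs. -/
theorem num_two_q_le (h : Orders G q r (2 * q)) {L : ℕ} (hL : ∀ t : G, orderOf t = 2 → numQ q t ≤ L) :
    numOrd G (2 * q) ≤ numOrd G 2 * L ∧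
      Nat.card (Σ t : {g : G // orderOf g = 2}, {y : G // orderOf y = q ∧ Commute t.1 y}) ≤ numOrd G 2 * L := by
  classical
  haveI : Fintype {g : G // orderOf g = 2} := Fintype.ofFinite _
  have hpairs : Nat.card (Σ t : {g : G // orderOf g = 2}, {y : G // orderOf y = q ∧ Commute t.1 y}) ≤
      numOrd G 2 * L := by
    rw [Nat.card_sigma, numOrd, Nat.card_eq_fintype_card, ← Finset.card_univ, ← smul_eq_mul]
    exact Finset.sum_le_card_nsmul _ _ _ fun t _ => hL t.1 t.2
  refine ⟨le_trans ?_ hpairs, hpairs⟩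
  refine Nat.card_le_card_of_injective (fun x : {g : G // orderOf g = 2 * q} =>
    (⟨⟨x.1 ^ q, (pow_parts h x.2).1⟩, ⟨x.1 ^ 2, (pow_parts h x.2).2⟩⟩ :
      Σ t : {g : G // orderOf g = 2}, {y : G // orderOf y = q ∧ Commute t.1 y})) ?_
  rintro ⟨x, hx⟩ ⟨x', hx'⟩ e
  have e1 : x ^ q = x' ^ q := congrArg (fun p : Σ t : {g : G // orderOf g = 2},
    {y : G // orderOf y = q ∧ Commute t.1 y} => (p.1 : G)) e
  have e2 : x ^ 2 = x' ^ 2 := congrArg (fun p : Σ t : {g : G // orderOf g = 2},
    {y : G // orderOf y = q ∧ Commute t.1 y} => (p.2 : G)) e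
  obtain ⟨k, hk⟩ := odd_q h
  refine Subtype.ext ?_
  rw [hk, pow_succ, pow_succ, pow_mul, pow_mul, e2] at e1
  exact mul_left_cancel e1

/-- The bound on the elements of order `r`. -/
theorem two_mul_r [IsSimpleGroup G] (h : Orders G q r (2 * q)) (hns : ¬ Group.IsSolvable G) :
    2 * numOrd G r + 2 ≤ Nat.card G := by
  haveI := Fact.mk h.hr
  obtain ⟨R⟩ : Nonempty (Sylow r G) := inferInstance
  obtain ⟨hle, -⟩ := r_count R h.dvd_card.2.2 (fun g hg => isPGroup_centralizer (r_alone h) hg)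
    (fun a b ha hb => h.conj a b (ha.trans hb.symm))
  set N := Subgroup.normalizer ((R : Subgroup G) : Set G)
  set Z := Subgroup.center (R : Subgroup G)
  have hm : (R : Subgroup G).index ≠ 1 := fun e => hns (by
    have hR := R.2
    rw [Subgroup.index_eq_one.1 e] at hR
    haveI := hR.isNilpotent
    exact Group.isSolvable_of_surjective (f := (⊤ : Subgroup G).subtype)
      fun x => ⟨⟨x, Subgroup.mem_top x⟩, rfl⟩)
  have hm0 : (R : Subgroup G).index ≠ 0 := Subgroup.index_ne_zero_of_finite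
  have hG6 : 6 ≤ Nat.card G := by
    have h1 := Nat.le_of_dvd Nat.card_pos (((Nat.coprime_primes Nat.prime_two h.hr).2
      h.r2.symm).mul_dvd_of_dvd_of_dvd h.dvd_card.1 h.dvd_card.2.2)
    have := h.hr.two_le
    have := h.r2
    omega
  have hR3 : 3 ≤ r := by have := h.hr.two_le; have := h.r2; omega
  have hNR : Nat.card R ∣ Nat.card N := Subgroup.card_dvd_of_le Subgroup.le_normalizer
  have hRG := (R : Subgroup G).card_mul_index
  by_cases hab : Z = ⊤
  · have hne : N ≠ (R : Subgroup G) := by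
      intro e
      have hc : N ≤ Subgroup.centralizer ((R : Subgroup G) : Set G) := by
        intro x hx
        rw [e] at hx
        refine Subgroup.mem_centralizer_iff.2 fun y hy => ?_
        have := Subgroup.mem_center_iff.1 (hab ▸ Subgroup.mem_top (⟨x, hx⟩ : (R : Subgroup G))) ⟨y, hy⟩
        exact congrArg Subtype.val this
      have hcomp := MonoidHom.ker_transferSylow_isComplement' R hc
      rcases IsSimpleGroup.eq_bot_or_eq_top_of_normal (MonoidHom.transferSylow R hc).ker inferInstance with e' | e'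
      · rw [e'] at hcomp
        exact hm (by rw [Subgroup.isComplement'_bot_left] at hcomp; rw [hcomp, Subgroup.index_top])
      · rw [e'] at hcomp
        have h1 : Nat.card R = 1 := by
          rw [Subgroup.isComplement'_top_left] at hcomp; rw [hcomp, Subgroup.card_bot]
        have := R.dvd_card_of_dvd_card h.dvd_card.2.2
        rw [h1, Nat.dvd_one] at this
        exact h.hr.ne_one this
    obtain ⟨j, hj⟩ := hNR
    have hj2 : 2 ≤ j := by
      rcases j with _ | _ | j
      · rw [mul_zero] at hj; exact absurd hj Nat.card_pos.ne'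
      · rw [zero_add, mul_one] at hj
        exact absurd (Subgroup.eq_of_le_of_card_ge Subgroup.le_normalizer hj.le).symm hne
      · omega
    have hZ : Nat.card Z = Nat.card R := by rw [hab, Subgroup.card_top]
    rw [hZ, hj] at hle
    have h2 : numOrd G r * (Nat.card R * 2) ≤ numOrd G r * (Nat.card R * j) :=
      Nat.mul_le_mul_left _ (Nat.mul_le_mul_left _ hj2)
    rw [← hRG] at hle ⊢
    refine Nat.le_of_mul_le_mul_left ?_ (Nat.card_pos (α := R))
    have : 2 ≤ (R : Subgroup G).index := by omega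
    nlinarith
  · obtain ⟨i, hi⟩ : Nat.card Z ∣ Nat.card R := Subgroup.card_subgroup_dvd_card Z
    have hi3 : 3 ≤ i := by
      obtain ⟨k, hk⟩ := R.2.exists_card_eq
      obtain ⟨l, -, hl⟩ := (Nat.dvd_prime_pow h.hr).1 (hk ▸ (Dvd.intro_left _ hi.symm) : i ∣ r ^ k)
      rcases l with _ | l
      · exfalso
        rw [hl, pow_zero, mul_one] at hi
        exact hab (Subgroup.eq_top_of_card_eq Z hi.symm)
      · rw [hl]
        exact le_trans hR3 (Nat.le_self_pow (by omega) r)
    have hZ0 : 0 < Nat.card Z := Nat.card_pos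
    have hRN : Nat.card R ≤ Nat.card N := Nat.le_of_dvd Nat.card_pos hNR
    have h2 : numOrd G r * (3 * Nat.card Z) ≤ numOrd G r * Nat.card N :=
      Nat.mul_le_mul_left _ (le_trans (by rw [hi, mul_comm 3]; exact Nat.mul_le_mul_left _ hi3) hRN)
    have : 3 * numOrd G r ≤ Nat.card G := Nat.le_of_mul_le_mul_left (by nlinarith) hZ0
    omega

end Cfsg.Agent.GroupStructure3.FiveOrbits.TwoQ
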