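import Cfsg.Agent.GroupStructure3.FiveOrbits.TwoQ.Setup
import Cfsg.Agent.S0018
import Cfsg.Agent.S0058

/-!
# The spectrum `{1, 2, q, r, 2q}`: centralizers of involutions `W ⋊ S`
-/

set_option autoImplicit false

namespace Cfsg.Agent.GroupStructure3.FiveOrbits.TwoQ

open FiveOrders (conjS mem_conjS commute_of_sq)

universe u

variable {G : Type u} [Group G] [Finite G] {q r : ℕ} [Fact (Nat.Prime 2)]

/-- The arithmetical contradiction. -/
theorem small_false [IsSimpleGroup G] (h : Orders G q r (2 * q)) (hns : ¬ Group.IsSolvable G)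
    (S : Sylow 2 G) (h4 : 4 ≤ Nat.card S) (w : ℕ)
    (hC : ∀ s ∈ (S : Subgroup G), s ≠ 1 → Nat.card (Subgroup.centralizer ({s} : Set G)) = Nat.card S * w)
    (hd : ∀ s ∈ (S : Subgroup G), s ≠ 1 →
      Subgroup.centralizer ({s} : Set G) ⊓ Subgroup.normalizer ((S : Subgroup G) : Set G) =
        Subgroup.centralizer ((S : Subgroup G) : Set G))
    (hL : ∀ s ∈ (S : Subgroup G), s ≠ 1 → numQ q s + 1 ≤ w)
    {y₀ : G} (hy₀ : orderOf y₀ = q) (B : Subgroup G) (hBS : B ≤ (S : Subgroup G))
    (hB : Nat.card S ≤ 2 * Nat.card B) (hBy : ∀ b ∈ B, Commute b y₀) : False := by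
  classical
  set M := Subgroup.normalizer ((S : Subgroup G) : Set G) with hM
  set D := Subgroup.centralizer ((S : Subgroup G) : Set G) with hD
  have hsq := sylow_sq h S
  have hSD : (S : Subgroup G) ≤ D := fun x hx => Subgroup.mem_centralizer_iff.2 fun y hy =>
    (commute_of_sq hsq hy hx).eq
  have hDM : D ≤ M := Subgroup.centralizer_le_normalizer _
  -- the index of `C(S)` in `N(S)`
  obtain ⟨e, he⟩ : Nat.card D ∣ Nat.card M := Subgroup.card_dvd_of_le hDM
  have he3 : 3 ≤ e := by
    have hodd : ¬ 2 ∣ e := by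
      intro h2
      apply S.not_dvd_index
      obtain ⟨a, ha⟩ : Nat.card S ∣ Nat.card D := Subgroup.card_dvd_of_le hSD
      obtain ⟨b, hb⟩ : Nat.card M ∣ Nat.card G := Subgroup.card_subgroup_dvd_card M
      have hix : (S : Subgroup G).index = a * e * b := by
        have h1 := (S : Subgroup G).card_mul_index
        rw [hb, he, ha] at h1
        exact Nat.eq_of_mul_eq_mul_left (Nat.card_pos (α := S)) (h1.trans (by ring))
      rw [hix]
      exact dvd_mul_of_dvd_left (dvd_mul_of_dvd_right h2 _) _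
    have he1 : e ≠ 1 := by
      intro he1
      rw [he1, mul_one] at he
      have hc : M ≤ D := (Subgroup.eq_of_le_of_card_ge hDM he.le).ge
      have hcomp := MonoidHom.ker_transferSylow_isComplement' S hc
      rcases IsSimpleGroup.eq_bot_or_eq_top_of_normal (MonoidHom.transferSylow S hc).ker inferInstance with e' | e'
      · rw [e', Subgroup.isComplement'_bot_left] at hcomp
        apply hns
        have hS2 := S.2
        rw [hcomp] at hS2
        haveI := hS2.isNilpotent
        exact Group.isSolvable_of_surjective (f := (⊤ : Subgroup G).subtype)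
          fun x => ⟨⟨x, Subgroup.mem_top x⟩, rfl⟩
      · rw [e', Subgroup.isComplement'_top_left] at hcomp
        rw [hcomp, Subgroup.card_bot] at h4
        omega
    rcases e with _ | _ | _ | e
    · rw [mul_zero] at he; exact absurd he Nat.card_pos.ne'
    · exact absurd rfl he1
    · exact absurd ⟨1, rfl⟩ hodd
    · omega
  -- involutions
  have key := inv_count S hsq (Nat.card S * w) (Nat.card D) hC (fun s hs hs1 => by rw [hd s hs hs1])
  set n2 := numOrd G 2 with hn2
  set N := Nat.card S with hN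
  have key' : n2 * (N * w * e) = Nat.card G * (N - 1) := by
    refine Nat.eq_of_mul_eq_mul_right (Nat.card_pos (α := D)) ?_
    rw [← key, he]; ring
  -- the number of commuting elements of order `q`
  obtain ⟨s₀, hs₀, hs₀1⟩ : ∃ s ∈ (S : Subgroup G), s ≠ 1 := by
    by_contra hno
    push Not at hno
    rw [(Subgroup.eq_bot_iff_forall _).2 hno] at hN
    rw [hN, Subgroup.card_bot] at h4
    omega
  have hw1 : 1 ≤ w := le_trans (by omega) (hL s₀ hs₀ hs₀1)
  have hLall : ∀ t : G, orderOf t = 2 → numQ q t ≤ w - 1 := by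
    intro t ht
    obtain ⟨f, hf⟩ := h.conj s₀ t ((orderOf_of_mem h S hs₀ hs₀1).trans ht.symm)
    have := hL s₀ hs₀ hs₀1
    rw [← hf, numQ_map]
    omega
  obtain ⟨h2q, hpairs⟩ := num_two_q_le h hLall
  -- elements of order `q`
  have hq : numOrd G q * (Nat.card B - 1) ≤ n2 * (w - 1) := by
    refine le_trans ?_ hpairs
    have hy : ∀ y : {g : G // orderOf g = q}, Nat.card B - 1 ≤ Nat.card {t : G // orderOf t = 2 ∧ Commute t y.1} := by
      rintro ⟨y, hy⟩
      obtain ⟨f, hf⟩ := h.conj y₀ y (hy₀.trans hy.symm)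
      have hB1 : Nat.card {b : G // b ∈ B ∧ b ≠ 1} + 1 = Nat.card B := by
        have := Set.ncard_sdiff_singleton_add_one (show (1 : G) ∈ (B : Set G) from one_mem _) (Set.toFinite _)
        rw [show (B : Set G).ncard = Nat.card B from (Nat.card_coe_set_eq _).symm] at this
        rw [← this]
        congr 1
      have := Nat.card_le_card_of_injective (fun b : {b : G // b ∈ B ∧ b ≠ 1} =>
        (⟨f b.1, by rw [MulEquiv.orderOf_eq]; exact orderOf_of_mem h S (hBS b.2.1) b.2.2,
          hf ▸ (hBy b.1 b.2.1).map f.toMonoidHom⟩ : {t : G // orderOf t = 2 ∧ Commute t y}))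
        (fun a b e => Subtype.ext (f.injective (congrArg (fun x : {t : G // orderOf t = 2 ∧ Commute t y} => (x : G)) e)))
      show Nat.card B - 1 ≤ Nat.card {t : G // orderOf t = 2 ∧ Commute t y}
      omega
    haveI : Fintype {g : G // orderOf g = q} := Fintype.ofFinite _
    have hswap : (Σ t : {g : G // orderOf g = 2}, {y : G // orderOf y = q ∧ Commute t.1 y}) ≃
        Σ y : {g : G // orderOf g = q}, {t : G // orderOf t = 2 ∧ Commute t y.1} :=
      { toFun := fun p => ⟨⟨p.2.1, p.2.2.1⟩, ⟨p.1.1, p.1.2, p.2.2.2⟩⟩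
        invFun := fun p => ⟨⟨p.2.1, p.2.2.1⟩, ⟨p.1.1, p.1.2, p.2.2.2⟩⟩
        left_inv := fun _ => rfl
        right_inv := fun _ => rfl }
    rw [Nat.card_congr hswap, Nat.card_sigma, numOrd, Nat.card_eq_fintype_card, ← Finset.card_univ,
      ← smul_eq_mul]
    exact Finset.card_nsmul_le_sum _ _ _ fun y _ => hy y
  have hn2pos : 0 < n2 := Nat.card_pos_iff.2 ⟨⟨⟨s₀, orderOf_of_mem h S hs₀ hs₀1⟩⟩, inferInstance⟩
  have hr := two_mul_r h hns
  have hpart := partition h
  set nq := numOrd G q
  set n2q := numOrd G (2 * q)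
  obtain ⟨v, rfl⟩ : ∃ v, w = v + 1 := ⟨w - 1, by omega⟩
  rw [Nat.add_sub_cancel] at hq h2q
  obtain ⟨N', hN'⟩ : ∃ N', N = N' + 1 := ⟨N - 1, by omega⟩
  rw [hN', Nat.add_sub_cancel] at key'
  -- `3 N w n₂ ≤ |G| (N - 1)`
  have h3 : 3 * (n2 * ((N' + 1) * (v + 1))) ≤ Nat.card G * N' := by
    rw [← key', show n2 * ((N' + 1) * (v + 1) * e) = e * (n2 * ((N' + 1) * (v + 1))) by ring]
    exact Nat.mul_le_mul_right _ he3
  by_cases h8 : 8 ≤ N
  · have hb : 3 ≤ Nat.card B - 1 := by omega
    have hq3 : 3 * nq ≤ n2 * v := le_trans (by rw [mul_comm]; exact Nat.mul_le_mul_left _ hb) hq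
    have h3' : 3 * (n2 * (v + 1)) < Nat.card G := by
      by_contra hle
      push Not at hle
      have := Nat.mul_le_mul_right (N' + 1) hle
      have hG0 : 0 < Nat.card G := Nat.card_pos
      nlinarith
    nlinarith
  · obtain ⟨m, hm⟩ := S.2.exists_card_eq
    have hN4 : N = 4 := by
      have hm2 : m = 2 := by
        rcases (show m ≤ 1 ∨ m = 2 ∨ 3 ≤ m by omega) with hh | hh | hh
        · have := Nat.pow_le_pow_right two_pos hh; omega
        · exact hh
        · have := Nat.pow_le_pow_right two_pos hh; omega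
      rw [hN, hm, hm2]; rfl
    have hN'3 : N' = 3 := by omega
    subst hN'3
    have hb : 1 ≤ Nat.card B - 1 := by omega
    have hq1 : nq ≤ n2 * v := le_trans (le_mul_of_one_le_right' hb) hq
    nlinarith

/-- Centralizers of involutions have order divisible only by `2` and `q`. -/
theorem solvable_centralizer (h : Orders G q r (2 * q)) {t : G} (ht : orderOf t = 2) :
    Group.IsSolvable (Subgroup.centralizer ({t} : Set G)) := by
  set K := Subgroup.centralizer ({t} : Set G)
  have hp : ∀ p : ℕ, p.Prime → p ∣ Nat.card K → p = 2 ∨ p = q := by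
    intro p hp hd
    haveI := Fact.mk hp
    obtain ⟨⟨c, hc⟩, ho⟩ := exists_prime_orderOf_dvd_card' p hd
    rw [Subgroup.orderOf_mk] at ho
    rcases centralizer_orders h ht (Subgroup.mem_centralizer_singleton_iff.1 hc) with e | e | e | e
    · exact absurd (ho ▸ e) hp.ne_one
    · exact Or.inl (ho ▸ e)
    · exact Or.inr (ho ▸ e)
    · exact absurd ((ho ▸ e) ▸ hp) (Nat.not_prime_mul (by norm_num) h.hq.ne_one)
  have hc := Nat.prod_factorization_pow_eq_self (n := Nat.card K) Nat.card_pos.ne'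
  rw [Finsupp.prod_of_support_subset _ (s := ({2, q} : Finset ℕ)) (by
      intro p hp'
      rw [Nat.support_factorization, Nat.mem_primeFactors] at hp'
      simpa using hp p hp'.1 hp'.2.1) _ (fun _ _ => pow_zero _), Finset.prod_pair h.q2.symm] at hc
  exact Characters.burnside_pa_qb Nat.prime_two h.hq hc.symm

/-- An element of order `q` centralizing a hyperplane of `S` and normalizing `S` centralizes `S`. -/
theorem commute_of_hyperplane (h : Orders G q r (2 * q)) (S : Sylow 2 G) {y : G} (hy : orderOf y = q)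
    (hyS : y ∈ Subgroup.normalizer ((S : Subgroup G) : Set G)) (D : Subgroup G) (hDS : D ≤ (S : Subgroup G))
    (hD : Nat.card S ≤ 2 * Nat.card D) (hDy : ∀ d ∈ D, Commute d y) :
    ∀ s ∈ (S : Subgroup G), Commute s y := by
  intro s hs
  by_cases hsD : s ∈ D
  · exact hDy s hsD
  have hsq := sylow_sq h S
  have hS' : ∀ x ∈ (S : Subgroup G), x ∈ D ∨ s * x ∈ D := by
    by_contra hno
    push Not at hno
    obtain ⟨x, hx, hxD, hsx⟩ := hno
    have hinj : Function.Injective (fun z : Fin 3 × D =>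
        (⟨![1, s, x] z.1 * z.2, mul_mem (by
          rcases z with ⟨i, z⟩
          fin_cases i
          exacts [one_mem _, hs, hx]) (hDS z.2.2)⟩ : (S : Subgroup G))) := by
      rintro ⟨i, a⟩ ⟨j, b⟩ e
      have e' : ![1, s, x] i * (a : G) = ![1, s, x] j * b := congrArg Subtype.val e
      have e2 : (![1, s, x] j)⁻¹ * ![1, s, x] i ∈ D := by
        have : (![1, s, x] j)⁻¹ * ![1, s, x] i = (b : G) * (a : G)⁻¹ := by
          rw [eq_mul_inv_iff_mul_eq, mul_assoc, e', inv_mul_cancel_left]
        rw [this]; exact D.mul_mem b.2 (D.inv_mem a.2)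
      have hij : i = j := by
        have i1 : s⁻¹ = s := inv_eq_of_mul_eq_one_right (hsq s hs)
        have i2 : x⁻¹ = x := inv_eq_of_mul_eq_one_right (hsq x hx)
        have i3 : x * s = s * x := (commute_of_sq hsq hx hs).eq
        fin_cases i <;> fin_cases j <;>
          simp [i1, i2, i3, hsD, hxD, hsx] at e2 ⊢
      subst hij
      exact Prod.ext rfl (Subtype.ext (mul_left_cancel e'))
    have := Nat.card_le_card_of_injective _ hinj
    rw [Nat.card_prod, Nat.card_fin] at this
    have : 0 < Nat.card D := Nat.card_pos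
    omega
  have hys : y * s * y⁻¹ ∈ (S : Subgroup G) := (Subgroup.mem_normalizer_iff.1 hyS s).1 hs
  rcases hS' _ hys with h1 | h1
  · exfalso
    apply hsD
    have h2 := hDy _ h1
    have : y * s * y⁻¹ = s := by
      have h3 : y * s * y⁻¹ * y = y * (y * s * y⁻¹) := h2.eq
      calc y * s * y⁻¹ = y⁻¹ * (y * (y * s * y⁻¹)) := by group
        _ = y⁻¹ * (y * s * y⁻¹ * y) := by rw [h3]
        _ = s := by group
    exact this ▸ h1
  · set d := s * (y * s * y⁻¹) with hd
    have hdd : d * d = 1 := hsq d (hDS h1)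
    have hcd : Commute y d := (hDy d h1).symm
    have hyd : y * s * y⁻¹ = s * d := by rw [hd, ← mul_assoc, hsq s hs, one_mul]
    have hj : ∀ j : ℕ, y ^ j * s * (y ^ j)⁻¹ = s * d ^ j := by
      intro j
      induction j with
      | zero => simp
      | succ j ih =>
        rw [pow_succ' y, mul_inv_rev, show y * y ^ j * s * ((y ^ j)⁻¹ * y⁻¹) = y * (y ^ j * s * (y ^ j)⁻¹) * y⁻¹ by group,
          ih, show y * (s * d ^ j) * y⁻¹ = (y * s * y⁻¹) * (y * d ^ j * y⁻¹) by group, hyd,
          (hcd.pow_right j).eq, mul_inv_cancel_right, pow_succ', mul_assoc]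
    have h0 := hj q
    rw [show y ^ q = 1 by rw [← hy]; exact pow_orderOf_eq_one y, one_mul, inv_one, mul_one] at h0
    obtain ⟨k, hk⟩ := odd_q h
    rw [hk, pow_succ, pow_mul, pow_two, hdd, one_pow, one_mul, left_eq_mul] at h0
    rw [h0, mul_one] at hyd
    exact (mul_inv_eq_iff_eq_mul.1 hyd).symm

/-- An element of order `q` centralizing `S` forces all involution centralizers to be `C(S)`. -/
theorem case_central [IsSimpleGroup G] (h : Orders G q r (2 * q)) (hns : ¬ Group.IsSolvable G)
    (S : Sylow 2 G) (h4 : 4 ≤ Nat.card S) {y₀ : G} (hy₀ : orderOf y₀ = q)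
    (hy₀S : ∀ s ∈ (S : Subgroup G), Commute s y₀) : False := by
  classical
  set M := Subgroup.normalizer ((S : Subgroup G) : Set G) with hM
  set D := Subgroup.centralizer ((S : Subgroup G) : Set G) with hD
  have hsq := sylow_sq h S
  have hSD : (S : Subgroup G) ≤ D := fun x hx => Subgroup.mem_centralizer_iff.2 fun y hy =>
    (commute_of_sq hsq hy hx).eq
  obtain ⟨s₀, hs₀, hs₀1⟩ : ∃ s ∈ (S : Subgroup G), s ≠ 1 := by
    by_contra hno
    push Not at hno
    have : Nat.card S = 1 := by
      show Nat.card (S : Subgroup G) = 1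
      rw [(Subgroup.eq_bot_iff_forall _).2 hno, Subgroup.card_bot]
    omega
  have hmem : ∀ {x : G}, x ∈ D ↔ ∀ s ∈ (S : Subgroup G), Commute s x := fun {x} =>
    ⟨fun hx s hs => Subgroup.mem_centralizer_iff.1 hx s hs, fun hx => Subgroup.mem_centralizer_iff.2 fun s hs => hx s hs⟩
  have hfull : ∀ t ∈ (S : Subgroup G), t ≠ 1 → Subgroup.centralizer ({t} : Set G) = D := by
    intro t ht ht1
    set K := Subgroup.centralizer ({t} : Set G) with hK
    have hto := orderOf_of_mem h S ht ht1
    have hSK : (S : Subgroup G) ≤ K := sylow_le_centralizer h S ht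
    have hDK : D ≤ K := fun x hx => Subgroup.mem_centralizer_singleton_iff.2 ((hmem.1 hx) t ht).symm.eq
    have hyc : ∀ y : G, orderOf y = q → Commute t y → ∃ a ∈ K, a⁻¹ * y * a ∈ D := by
      intro y hy hty
      have hu₀ := orderOf_mul_pair h (orderOf_of_mem h S hs₀ hs₀1) hy₀ (hy₀S s₀ hs₀)
      have hu := orderOf_mul_pair h hto hy hty
      obtain ⟨f, hf⟩ := h.conj (s₀ * y₀) (t * y) (hu₀.1.trans hu.1.symm)
      have hle : ∀ x ∈ (S : Subgroup G), Commute (f x) t ∧ Commute (f x) y := fun x hx => by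
        refine centralizer_pair_le h hto hy hty ?_
        rw [← hf, ← map_centralizer]
        refine Subgroup.mem_map_of_mem _ (Subgroup.mem_centralizer_singleton_iff.2 ?_)
        exact (((commute_of_sq hsq hx hs₀)).mul_right (hy₀S x hx)).eq
      obtain ⟨a, ha, hconj⟩ := exists_conj_in S hSK (P := (S : Subgroup G).map f.toMonoidHom)
        (S.2.map _) (by rintro _ ⟨x, hx, rfl⟩; exact Subgroup.mem_centralizer_singleton_iff.2 (hle x hx).1.eq)
      refine ⟨a, ha, hmem.2 fun s hs => ?_⟩
      obtain ⟨x, hx, hxs⟩ : ∃ x ∈ (S : Subgroup G), a⁻¹ * f x * a = s := by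
        have hsurj : Function.Surjective (fun x : (S : Subgroup G) =>
            (⟨a⁻¹ * f x * a, hconj _ ⟨x, x.2, rfl⟩⟩ : (S : Subgroup G))) := by
          refine (Finite.injective_iff_surjective).1 fun x x' e => Subtype.ext (f.injective ?_)
          exact mul_left_cancel (mul_right_cancel (congrArg Subtype.val e))
        obtain ⟨x, hx⟩ := hsurj ⟨s, hs⟩
        exact ⟨x, x.2, congrArg Subtype.val hx⟩
      subst hxs
      have := ((hle x hx).2).map (MulAut.conj a⁻¹).toMonoidHom
      simpa [MulAut.conj_apply] using this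
    refine le_antisymm ?_ hDK
    have htop := eq_top_of_cover (D.subgroupOf K) ?_
    · rwa [Subgroup.subgroupOf_eq_top] at htop
    rintro ⟨k, hk⟩
    have hkt : Commute k t := Subgroup.mem_centralizer_singleton_iff.1 hk
    suffices ∃ a ∈ K, a⁻¹ * k * a ∈ D by
      obtain ⟨a, ha, hD'⟩ := this
      exact ⟨⟨a, ha⟩, Subgroup.mem_subgroupOf.2 hD'⟩
    rcases centralizer_orders h hto hkt with e | e | e | e
    · exact ⟨1, one_mem K, by rw [orderOf_eq_one_iff.1 e]; simpa using one_mem D⟩
    · obtain ⟨a, ha, hconj⟩ := exists_conj_in S hSK (P := Subgroup.zpowers k)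
        (IsPGroup.of_card (n := 1) (by rw [Nat.card_zpowers, e, pow_one]))
        (Subgroup.zpowers_le.2 hk)
      exact ⟨a, ha, hSD (hconj k (Subgroup.mem_zpowers k))⟩
    · exact hyc k e hkt.symm
    · obtain ⟨h1, h2, h3⟩ := pow_parts h e
      obtain ⟨a, ha, haD⟩ := hyc (k ^ 2) h2 (hkt.symm.pow_right 2)
      set y' := a⁻¹ * k ^ 2 * a with hy'
      have hsw : Commute (a⁻¹ * k ^ q * a) y' := by
        have := h3.map (MulAut.conj a⁻¹).toMonoidHom
        simpa [MulAut.conj_apply, hy'] using this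
      obtain ⟨b, hb, hconj⟩ := exists_conj_in S (K := K ⊓ Subgroup.centralizer ({y'} : Set G))
        (le_inf hSK fun s hs => Subgroup.mem_centralizer_singleton_iff.2 ((hmem.1 haD) s hs).eq)
        (P := Subgroup.zpowers (a⁻¹ * k ^ q * a))
        (IsPGroup.of_card (n := 1) (by
          rw [Nat.card_zpowers, pow_one, ← h1]
          simpa using MulEquiv.orderOf_eq (MulAut.conj a⁻¹) (k ^ q)))
        (Subgroup.zpowers_le.2 ⟨K.mul_mem (K.mul_mem (K.inv_mem ha) (K.pow_mem hk q)) ha,
          Subgroup.mem_centralizer_singleton_iff.2 hsw.eq⟩)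
      have hbS := hconj _ (Subgroup.mem_zpowers _)
      have hby : Commute b y' := Subgroup.mem_centralizer_singleton_iff.1 hb.2
      refine ⟨a * b, mul_mem ha hb.1, ?_⟩
      have e1 : b⁻¹ * y' * b = y' := by rw [mul_assoc, ← hby.eq, inv_mul_cancel_left]
      have hy2 : b⁻¹ * y' * b ∈ D := e1.symm ▸ haD
      obtain ⟨j, hj⟩ := odd_q h
      have hdec : k = k ^ q * ((k ^ 2) ^ j)⁻¹ := by rw [hj, ← pow_mul]; group
      have key : (a * b)⁻¹ * k * (a * b) = b⁻¹ * (a⁻¹ * k ^ q * a) * b * ((b⁻¹ * y' * b) ^ j)⁻¹ := by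
        conv_lhs => rw [hdec]
        have e2 : (b⁻¹ * y' * b) ^ j = (a * b)⁻¹ * (k ^ 2) ^ j * (a * b) := by
          rw [hy', show b⁻¹ * (a⁻¹ * k ^ 2 * a) * b = (a * b)⁻¹ * k ^ 2 * ((a * b)⁻¹)⁻¹ by group, conj_pow, inv_inv]
        rw [e2]; group
      rw [key]
      exact mul_mem (hSD hbS) (inv_mem (pow_mem hy2 j))
  obtain ⟨w, hw⟩ : Nat.card S ∣ Nat.card D := Subgroup.card_dvd_of_le hSD
  refine small_false h hns S h4 w (fun s hs hs1 => by rw [hfull s hs hs1, hw])
    (fun s hs hs1 => by rw [hfull s hs hs1]; exact inf_eq_left.2 (Subgroup.centralizer_le_normalizer _))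
    (fun s hs hs1 => ?_) hy₀ (S : Subgroup G) le_rfl (Nat.le_mul_of_pos_left _ two_pos) hy₀S
  -- `|{y}| + 1 ≤ |C(S) : S|`
  have hinj : Function.Injective (fun z : Option {y : G // orderOf y = q ∧ Commute s y} × (S : Subgroup G) =>
      (⟨(z.1.elim 1 fun y => y.1) * z.2, by
        refine mul_mem ?_ (hSD z.2.2)
        rcases z.1 with _ | y
        · exact one_mem D
        · exact hfull s hs hs1 ▸ Subgroup.mem_centralizer_singleton_iff.2 y.2.2.symm.eq⟩ : D)) := by
    have hq1 : ∀ o : Option {y : G // orderOf y = q ∧ Commute s y},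
        (o.elim 1 fun y => y.1) ∈ D ∧ (o.elim 1 fun y => y.1) ^ q = 1 := by
      rintro (_ | y)
      · exact ⟨one_mem D, one_pow q⟩
      · exact ⟨hfull s hs hs1 ▸ Subgroup.mem_centralizer_singleton_iff.2 y.2.2.symm.eq,
          (congrArg (y.1 ^ ·) y.2.1).symm.trans (pow_orderOf_eq_one _)⟩
    rintro ⟨o, a⟩ ⟨o', b⟩ e
    have e' : (o.elim 1 fun y => y.1) * (a : G) = (o'.elim 1 fun y => y.1) * b := congrArg Subtype.val e
    obtain ⟨hoD, hoq⟩ := hq1 o
    obtain ⟨hoD', hoq'⟩ := hq1 o'
    obtain ⟨k, hk⟩ := odd_q h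
    have hpow : ∀ {z c : G}, z ∈ D → z ^ q = 1 → c ∈ (S : Subgroup G) → (z * c) ^ q = c := by
      intro z c hz hz1 hc
      have hzc : Commute z c := ((hmem.1 hz) c hc).symm
      rw [hzc.mul_pow, hz1, one_mul, hk, pow_succ, pow_mul, pow_two, hsq c hc, one_pow, one_mul]
    have hab : (a : G) = b := by
      have := congrArg (· ^ q) e'
      simpa [hpow hoD hoq a.2, hpow hoD' hoq' b.2] using this
    rw [hab] at e'
    have hoo := mul_right_cancel e'
    refine Prod.ext ?_ (Subtype.ext hab)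
    rcases o with _ | y <;> rcases o' with _ | y'
    · rfl
    · exfalso
      have : orderOf y'.1 = 1 := orderOf_eq_one_iff.2 hoo.symm
      exact h.hq.ne_one (y'.2.1.symm.trans this)
    · exfalso
      have : orderOf y.1 = 1 := orderOf_eq_one_iff.2 hoo
      exact h.hq.ne_one (y.2.1.symm.trans this)
    · exact congrArg some (Subtype.ext hoo)
  have := Nat.card_le_card_of_injective _ hinj
  rw [Nat.card_prod, hw, Finite.card_option, mul_comm (Nat.card S) w] at this
  exact Nat.le_of_mul_le_mul_right this Nat.card_pos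

/-- A centralizer of an involution of `S` not normalizing `S`. -/
theorem case_core [IsSimpleGroup G] (h : Orders G q r (2 * q)) (hns : ¬ Group.IsSolvable G)
    (S : Sylow 2 G) (h4 : 4 ≤ Nat.card S)
    (hnoC : ∀ y : G, orderOf y = q → ¬ ∀ s ∈ (S : Subgroup G), Commute s y)
    {t₀ : G} (ht₀ : t₀ ∈ (S : Subgroup G)) (ht₀1 : t₀ ≠ 1)
    (hnle : ¬ Subgroup.centralizer ({t₀} : Set G) ≤ Subgroup.normalizer ((S : Subgroup G) : Set G)) : False := by
  classical
  set M := Subgroup.normalizer ((S : Subgroup G) : Set G) with hM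
  have hsq := sylow_sq h S
  have hDS : Subgroup.centralizer ((S : Subgroup G) : Set G) = (S : Subgroup G) := by
    refine le_antisymm (fun x hx => ?_) fun x hx => Subgroup.mem_centralizer_iff.2 fun y hy =>
      (commute_of_sq hsq hy hx).eq
    have hxt : Commute x t₀ := (Subgroup.mem_centralizer_iff.1 hx t₀ ht₀).symm
    have hx' : ∀ s ∈ (S : Subgroup G), Commute s x := fun s hs => Subgroup.mem_centralizer_iff.1 hx s hs
    have hxx : x * x = 1 := by
      rcases centralizer_orders h (orderOf_of_mem h S ht₀ ht₀1) hxt with e | e | e | e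
      · rw [orderOf_eq_one_iff.1 e, one_mul]
      · rw [← pow_two, ← e]; exact pow_orderOf_eq_one x
      · exact absurd hx' (hnoC x e)
      · exact absurd (fun s hs => (hx' s hs).pow_right 2) (hnoC (x ^ 2) (pow_parts h e).2.1)
    have hP : IsPGroup 2 ((S : Subgroup G) ⊔ Subgroup.zpowers x : Subgroup G) := by
      refine S.2.to_sup_of_normal_left' ?_ (Subgroup.zpowers_le.2 (Subgroup.centralizer_le_normalizer _ hx))
      exact fun z => ⟨1, Subtype.ext (by
        obtain ⟨m, hm⟩ := Subgroup.mem_zpowers_iff.1 z.2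
        show (z : G) ^ (2 ^ 1) = 1
        rw [← hm, pow_one, pow_two, ← (Commute.refl x).mul_zpow, hxx, one_zpow])⟩
    exact (S.3 hP le_sup_left).le (Subgroup.mem_sup_right (Subgroup.mem_zpowers x))
  set K := Subgroup.centralizer ({t₀} : Set G) with hK
  have hto := orderOf_of_mem h S ht₀ ht₀1
  haveI := solvable_centralizer h hto
  have hSK : (S : Subgroup G) ≤ K := sylow_le_centralizer h S ht₀
  set S' : Sylow 2 K := S.subtype hSK with hS'
  have hS'e : (S' : Subgroup K) = (S : Subgroup G).subgroupOf K := Sylow.coe_subtype S hSK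
  have hS'c : IsMulCommutative (S' : Subgroup K) := ⟨⟨fun a b => Subtype.ext (Subtype.ext
    (commute_of_sq hsq (Subgroup.mem_subgroupOf.1 (hS'e ▸ a.2)) (Subgroup.mem_subgroupOf.1 (hS'e ▸ b.2))).eq)⟩⟩
  haveI := hS'c
  set W := Cfsg.pPrimeCore 2 K with hW
  haveI hN : ((S' : Subgroup K) ⊔ W).Normal := S0018.result 2 S' hS'c
  have hWodd : Odd (Nat.card W) := Nat.odd_iff.2 (Nat.two_dvd_ne_zero.1 (Cores.pPrimeCore_not_dvd 2))
  have hWq : ∀ x : K, x ∈ W → x ≠ 1 → orderOf (x : G) = q := by
    intro x hx hx1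
    have hd : Odd (orderOf (x : G)) := Odd.of_dvd_nat hWodd (by
      rw [Subgroup.orderOf_coe]; exact Subgroup.orderOf_dvd_natCard W hx)
    rcases centralizer_orders h hto (Subgroup.mem_centralizer_singleton_iff.1 x.2) with e | e | e | e
    · exact absurd (Subtype.ext (orderOf_eq_one_iff.1 e)) hx1
    · rw [e] at hd; exact absurd hd (by decide)
    · exact e
    · rw [e] at hd; exact absurd hd (by simp [Nat.odd_iff])
  have hWne : W ≠ ⊥ := by
    intro hW0
    rw [hW0, sup_bot_eq] at hN
    rw [hS'e] at hN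
    exact hnle ((Subgroup.normal_subgroupOf_iff_le_normalizer hSK).1 hN)
  -- an element of `W` centralizing a hyperplane
  obtain ⟨y₁, hy₁, B₁, hB₁S, hB₁card, hB₁y⟩ : ∃ y : G, orderOf y = q ∧ ∃ B : Subgroup G,
      B ≤ (S : Subgroup G) ∧ Nat.card S ≤ 2 * Nat.card B ∧ t₀ ∈ K ∧ ∀ b ∈ B, Commute b y ∧ Commute t₀ y := by
    haveI := Fintype.ofFinite (Subgroup K)
    let P : Finset (Subgroup K) := Finset.univ.filter fun B => B ≤ (S' : Subgroup K) ∧
      ∃ x ∈ W, x ≠ 1 ∧ ∀ b ∈ B, Commute b x
    obtain ⟨x₀, hx₀, hx₀1⟩ := (Subgroup.bot_or_exists_ne_one W).resolve_left hWne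
    obtain ⟨B, hBP, hmax⟩ := P.exists_max_image (fun B => Nat.card B) ⟨⊥, Finset.mem_filter.2
      ⟨Finset.mem_univ _, bot_le, x₀, hx₀, hx₀1, fun b hb => by
        rw [Subgroup.mem_bot.1 hb]; exact Commute.one_left _⟩⟩
    obtain ⟨-, hBS, x, hxW, hx1, hxB⟩ := Finset.mem_filter.1 hBP
    have hsqK : ∀ a ∈ (S' : Subgroup K), a * a = 1 := fun a ha =>
      Subtype.ext (hsq _ (Subgroup.mem_subgroupOf.1 (hS'e ▸ ha)))
    have h2B : Nat.card (S' : Subgroup K) ≤ 2 * Nat.card B := by
      by_contra hlt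
      push Not at hlt
      obtain ⟨a, ha, haB⟩ : ∃ a ∈ (S' : Subgroup K), a ∉ B := by
        by_contra hno
        push Not at hno
        have := Subgroup.card_le_of_le (show (S' : Subgroup K) ≤ B from hno)
        omega
      obtain ⟨b, hb, hbB, habB⟩ : ∃ b ∈ (S' : Subgroup K), b ∉ B ∧ a * b ∉ B := by
        by_contra hno
        push Not at hno
        have hle := Nat.card_le_card_of_injective (fun s : (S' : Subgroup K) =>
          if hs : (s : K) ∈ B then ((Sum.inl ⟨s, hs⟩) : B ⊕ B) else Sum.inr ⟨a * s, hno s s.2 hs⟩) (by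
            intro s s' e
            by_cases hs : (s : K) ∈ B <;> by_cases hs' : (s' : K) ∈ B <;> simp [hs, hs'] at e
            · exact e
            · exact e)
        rw [Nat.card_sum] at hle
        omega
      set A := Subgroup.closure ({a, b} : Set K) with hA
      have hAS : A ≤ (S' : Subgroup K) := by
        rw [hA, Subgroup.closure_le]
        rintro z (rfl | rfl) <;> assumption
      haveI : IsMulCommutative A := ⟨⟨fun u v => Subtype.ext
        (congrArg (fun z : (S' : Subgroup K) => (z : K)) (hS'c.is_comm.comm ⟨_, hAS u.2⟩ ⟨_, hAS v.2⟩))⟩⟩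
      have haA : a ∈ A := Subgroup.subset_closure (Set.mem_insert _ _)
      have hbA : b ∈ A := Subgroup.subset_closure (Set.mem_insert_of_mem _ rfl)
      have hmemA : ∀ z ∈ A, z = 1 ∨ z = a ∨ z = b ∨ z = a * b := by
        intro z hz
        have hab : a * b = b * a := (commute_of_sq hsqK ha hb).eq
        induction hz using Subgroup.closure_induction with
        | mem z hz => rcases hz with rfl | rfl <;> simp
        | one => simp
        | inv z hz ih =>
          rw [inv_eq_of_mul_eq_one_right (hsqK z (hAS hz))]; exact ih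
        | mul u v _ _ hu hv =>
          have h1 := hsqK a ha
          have h2 := hsqK b hb
          rcases hu with rfl | rfl | rfl | rfl <;> rcases hv with rfl | rfl | rfl | rfl <;>
            first
            | (simp [h1, h2]; done)
            | (right; right; left; rw [← mul_assoc, h1, one_mul]; done)
            | (right; left; rw [mul_assoc, h2, mul_one]; done)
            | (right; right; right; exact hab.symm)
            | (right; left; rw [hab, ← mul_assoc, h2, one_mul]; done)
            | (right; right; left; rw [hab, mul_assoc, h1, mul_one]; done)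
            | (left; exact hsqK _ (mul_mem ha hb))
      have hAB : ∀ z ∈ A, z ≠ 1 → z ∉ B := by
        intro z hz hz1
        rcases hmemA z hz with rfl | rfl | rfl | rfl
        exacts [absurd rfl hz1, haB, hbB, habB]
      have hncyc : ¬ IsCyclic A := by
        intro hc
        obtain ⟨g, hg⟩ := hc.exists_generator
        have h2 : orderOf g ∣ 2 := orderOf_dvd_of_pow_eq_one (Subtype.ext (by
          rw [Subgroup.coe_pow, pow_two]; exact hsqK _ (hAS g.2)))
        have hg2 := Nat.le_of_dvd two_pos h2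
        rw [orderOf_eq_card_of_forall_mem_zpowers hg] at hg2
        have h3 : ({1, a, b} : Set K).ncard = 3 := by
          rw [Set.ncard_eq_three]
          refine ⟨1, a, b, fun e => haB (e ▸ one_mem B), fun e => hbB (e ▸ one_mem B), fun e => habB ?_, rfl⟩
          rw [← e, hsqK a ha]; exact one_mem B
        have h4' : ({1, a, b} : Set K).ncard ≤ (A : Set K).ncard := Set.ncard_le_ncard (by
          intro z hz
          rcases hz with rfl | rfl | rfl
          exacts [one_mem A, haA, hbA]) (Set.toFinite _)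
        rw [show (A : Set K).ncard = Nat.card A from (Nat.card_coe_set_eq _).symm] at h4'
        omega
      set K₀ := W ⊓ Subgroup.centralizer (B : Set K) with hK₀
      have hAK : A ≤ Subgroup.normalizer (K₀ : Set K) := by
        intro u hu
        rw [Subgroup.mem_normalizer_iff]
        have key : ∀ u ∈ A, ∀ z ∈ K₀, u * z * u⁻¹ ∈ K₀ := by
          intro u hu z hz
          refine ⟨(Cores.pPrimeCore_normal 2).conj_mem z hz.1 u, Subgroup.mem_centralizer_iff.2 fun c hc => ?_⟩
          have h1 : u * c = c * u := (commute_of_sq hsqK (hAS hu) (hBS hc)).eq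
          have h2 : c * z = z * c := Subgroup.mem_centralizer_iff.1 hz.2 c hc
          have h3 : u⁻¹ * c = c * u⁻¹ := (show Commute u c from h1).inv_left.eq
          calc c * (u * z * u⁻¹) = u * (c * z) * u⁻¹ := by rw [← mul_assoc, ← mul_assoc, ← h1]; group
            _ = u * z * (c * u⁻¹) := by rw [h2]; group
            _ = u * z * u⁻¹ * c := by rw [← h3]; group
        intro z
        refine ⟨key u hu z, fun hz => ?_⟩
        have := key u⁻¹ (inv_mem hu) _ hz
        simpa [mul_assoc] using this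
      have hcop : (Nat.card A).Coprime (Nat.card K₀) := by
        obtain ⟨k, hk⟩ := (S'.2.to_le hAS).exists_card_eq
        rw [hk]
        refine Nat.Coprime.pow_left k ((Nat.prime_two.coprime_iff_not_dvd).2 fun hd => ?_)
        exact Cores.pPrimeCore_not_dvd 2 (hd.trans (Subgroup.card_dvd_of_le inf_le_left))
      have hgen := S0058.result A K₀ hncyc hAK hcop
      obtain ⟨a', ⟨ha', ha'1⟩, hne⟩ : ∃ a', (a' ∈ A ∧ a' ≠ 1) ∧ K₀ ⊓ Subgroup.centralizer ({a'} : Set K) ≠ ⊥ := by
        by_contra hno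
        push Not at hno
        have hxK : x ∈ K₀ := ⟨hxW, Subgroup.mem_centralizer_iff.2 fun c hc => (hxB c hc).eq⟩
        rw [← hgen] at hxK
        refine hx1 (Subgroup.mem_bot.1 ?_)
        have : (⨆ a ∈ {a : K | a ∈ A ∧ a ≠ 1}, K₀ ⊓ Subgroup.centralizer {a}) = ⊥ := by
          simp only [Set.mem_setOf_eq, iSup_eq_bot]
          exact fun a ha => hno a ha
        exact this ▸ hxK
      obtain ⟨z, hz, hz1⟩ := (Subgroup.bot_or_exists_ne_one _).resolve_left hne
      have hmem' : B ⊔ Subgroup.zpowers a' ∈ P := by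
        refine Finset.mem_filter.2 ⟨Finset.mem_univ _, sup_le hBS (Subgroup.zpowers_le.2 (hAS ha')), z, hz.1.1, hz1, ?_⟩
        have hle : B ⊔ Subgroup.zpowers a' ≤ Subgroup.centralizer ({z} : Set K) :=
          sup_le (fun c hc => Subgroup.mem_centralizer_singleton_iff.2 (Subgroup.mem_centralizer_iff.1 hz.1.2 c hc))
            (Subgroup.zpowers_le.2 (Subgroup.mem_centralizer_singleton_iff.2
              (Subgroup.mem_centralizer_singleton_iff.1 hz.2).symm))
        exact fun c hc => Subgroup.mem_centralizer_singleton_iff.1 (hle hc)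
      have := hmax _ hmem'
      have hlt' : B < B ⊔ Subgroup.zpowers a' := lt_of_le_of_ne le_sup_left fun e =>
        hAB a' ha' ha'1 (e.symm ▸ Subgroup.mem_sup_right (Subgroup.mem_zpowers a'))
      exact hlt'.ne (Subgroup.eq_of_le_of_card_ge le_sup_left this)
    refine ⟨x, hWq x hxW hx1, B.map K.subtype, ?_, ?_, Subgroup.mem_centralizer_singleton_iff.2 rfl, ?_⟩
    · rintro _ ⟨c, hc, rfl⟩
      exact Subgroup.mem_subgroupOf.1 (hS'e ▸ hBS hc)
    · rw [Subgroup.card_map_of_injective K.subtype_injective]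
      refine le_trans ?_ h2B
      rw [hS'e, Nat.card_congr (Subgroup.subgroupOfEquivOfLe hSK).toEquiv]
    · rintro _ ⟨c, hc, rfl⟩
      exact ⟨(hxB c hc).map K.subtype, (Subgroup.mem_centralizer_singleton_iff.1 x.2).symm⟩
  have hty₁ : Commute t₀ y₁ := (hB₁y.2 1 (one_mem _)).2
  replace hB₁y : ∀ b ∈ B₁, Commute b y₁ := fun b hb => (hB₁y.2 b hb).1
  -- no element of order `q` in `C(t₀) ∩ N(S)`
  have hnoM : ∀ y : G, orderOf y = q → Commute t₀ y → y ∉ M := by
    intro y hy hty hyM
    have hu₁ := orderOf_mul_pair h hto hy₁ hty₁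
    have hu := orderOf_mul_pair h hto hy hty
    obtain ⟨f, hf⟩ := h.conj (t₀ * y₁) (t₀ * y) (hu₁.1.trans hu.1.symm)
    have hle : ∀ b ∈ B₁, Commute (f b) t₀ ∧ Commute (f b) y := fun b hb => by
      refine centralizer_pair_le h hto hy hty ?_
      rw [← hf, ← map_centralizer]
      refine Subgroup.mem_map_of_mem _ (Subgroup.mem_centralizer_singleton_iff.2 ?_)
      exact ((commute_of_sq hsq (hB₁S hb) ht₀).mul_right (hB₁y b hb)).eq
    -- `f B₁ ≤ W S`
    have hWS : ∀ b ∈ B₁, ∃ w : K, w ∈ W ∧ (w : G)⁻¹ * f b ∈ (S : Subgroup G) := by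
      intro b hb
      have hfK : f b ∈ K := Subgroup.mem_centralizer_singleton_iff.2 (hle b hb).1.eq
      have hmem : (⟨f b, hfK⟩ : K) ∈ (S' : Subgroup K) ⊔ W := by
        obtain ⟨a, ha, hconj⟩ := exists_conj_in S hSK (P := Subgroup.zpowers (f b))
          (fun z => ⟨1, Subtype.ext (by
            obtain ⟨m, hm⟩ := Subgroup.mem_zpowers_iff.1 z.2
            show (z : G) ^ (2 ^ 1) = 1
            rw [← hm, pow_one, pow_two, ← (Commute.refl (f b)).mul_zpow, ← map_mul, hsq b (hB₁S hb), map_one,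
              one_zpow])⟩) (Subgroup.zpowers_le.2 hfK)
        have h1 : (⟨a⁻¹ * f b * a, mul_mem (mul_mem (inv_mem ha) hfK) ha⟩ : K) ∈ (S' : Subgroup K) ⊔ W :=
          Subgroup.mem_sup_left (hS'e.symm ▸ Subgroup.mem_subgroupOf.2 (hconj _ (Subgroup.mem_zpowers _)))
        have h2 := hN.conj_mem _ h1 ⟨a, ha⟩
        rwa [show (⟨a, ha⟩ : K) * ⟨a⁻¹ * f b * a, mul_mem (mul_mem (inv_mem ha) hfK) ha⟩ * (⟨a, ha⟩ : K)⁻¹ =
          (⟨f b, hfK⟩ : K) from Subtype.ext (by
            show a * (a⁻¹ * f b * a) * a⁻¹ = f b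
            group)] at h2
      rw [sup_comm, ← SetLike.mem_coe, Subgroup.normal_mul] at hmem
      obtain ⟨w, hw, s, hs, he⟩ := hmem
      refine ⟨w, hw, ?_⟩
      have he' : (w : G) * s = f b := congrArg Subtype.val he
      rw [← he', inv_mul_cancel_left]
      exact Subgroup.mem_subgroupOf.1 (hS'e ▸ hs)
    choose wf hwW hwS using hWS
    have hyK : y ∈ K := Subgroup.mem_centralizer_singleton_iff.2 hty.symm.eq
    have hcent : ∀ b (hb : b ∈ B₁), Commute ((wf b hb : G)⁻¹ * f b) y := by
      intro b hb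
      set w := wf b hb
      set s := (w : G)⁻¹ * f b with hs
      have hyb : y * f b * y⁻¹ = f b := by rw [← (hle b hb).2.eq, mul_inv_cancel_right]
      have hw' : (⟨y, hyK⟩ : K) * w * (⟨y, hyK⟩ : K)⁻¹ ∈ W := (Cores.pPrimeCore_normal 2).conj_mem w (hwW b hb) _
      have hs' : y * s * y⁻¹ ∈ (S : Subgroup G) := (Subgroup.mem_normalizer_iff.1 hyM s).1 (hwS b hb)
      have e1 : y * (w : G) * y⁻¹ * (y * s * y⁻¹) = (w : G) * s := by
        rw [hs, show y * (w : G) * y⁻¹ * (y * ((w : G)⁻¹ * f b) * y⁻¹) = y * f b * y⁻¹ by group, hyb]; group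
      have e2 : (w : G)⁻¹ * (y * (w : G) * y⁻¹) = s * (y * s * y⁻¹)⁻¹ := by
        rw [eq_mul_inv_iff_mul_eq, mul_assoc, e1, inv_mul_cancel_left]
      have hxS : (w : G)⁻¹ * (y * (w : G) * y⁻¹) ∈ (S : Subgroup G) :=
        e2 ▸ mul_mem (hwS b hb) (inv_mem hs')
      have hodd : Odd (orderOf ((w : G)⁻¹ * (y * (w : G) * y⁻¹))) := by
        have hmemW : w⁻¹ * ((⟨y, hyK⟩ : K) * w * (⟨y, hyK⟩ : K)⁻¹) ∈ W := mul_mem (inv_mem (hwW b hb)) hw'
        have := Subgroup.orderOf_dvd_natCard W hmemW
        rw [← Subgroup.orderOf_coe] at this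
        exact Odd.of_dvd_nat hWodd this
      have hone : (w : G)⁻¹ * (y * (w : G) * y⁻¹) = 1 := by
        obtain ⟨m, hm⟩ := hodd
        have h2 := hsq _ hxS
        have h3 := pow_orderOf_eq_one ((w : G)⁻¹ * (y * (w : G) * y⁻¹))
        rw [hm, pow_succ, pow_mul, pow_two, h2, one_pow, one_mul] at h3
        exact h3
      rw [hone] at e2
      show s * y = y * s
      exact (mul_inv_eq_iff_eq_mul.1 (mul_inv_eq_one.1 e2.symm).symm).symm
    set D := (S : Subgroup G) ⊓ Subgroup.centralizer ({y} : Set G) with hD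
    have hcard : Nat.card B₁ ≤ Nat.card D := by
      refine Nat.card_le_card_of_injective (fun b : B₁ => (⟨(wf b b.2 : G)⁻¹ * f b, hwS b b.2,
        Subgroup.mem_centralizer_singleton_iff.2 (hcent b b.2).eq⟩ : D)) ?_
      intro b c e
      have e' : (wf b b.2 : G)⁻¹ * f b = (wf c c.2 : G)⁻¹ * f c := congrArg Subtype.val e
      have e2 : (wf b b.2 : G) * (wf c c.2 : G)⁻¹ = f ((b : G) * (c : G)⁻¹) := by
        rw [map_mul, map_inv]
        rw [eq_mul_inv_iff_mul_eq, mul_assoc, ← e']
        group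
      have hodd : Odd (orderOf (f ((b : G) * (c : G)⁻¹))) := by
        rw [← e2]
        have := Subgroup.orderOf_dvd_natCard W (mul_mem (hwW b b.2) (inv_mem (hwW c c.2)))
        rw [← Subgroup.orderOf_coe] at this
        exact Odd.of_dvd_nat hWodd this
      rw [MulEquiv.orderOf_eq] at hodd
      obtain ⟨m, hm⟩ := hodd
      have h2 := hsq _ (hB₁S (B₁.mul_mem b.2 (B₁.inv_mem c.2)))
      have h3 := pow_orderOf_eq_one ((b : G) * (c : G)⁻¹)
      rw [hm, pow_succ, pow_mul, pow_two, h2, one_pow, one_mul] at h3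
      exact Subtype.ext (mul_inv_eq_one.1 h3)
    exact hnoC y hy (commute_of_hyperplane h S hy hyM D inf_le_left
      (le_trans hB₁card (Nat.mul_le_mul_left 2 hcard)) fun d hd =>
        Subgroup.mem_centralizer_singleton_iff.1 hd.2)
  have hinf : K ⊓ M = (S : Subgroup G) := by
    refine le_antisymm (fun x hx => ?_) (le_inf hSK Subgroup.le_normalizer)
    have hxt : Commute x t₀ := Subgroup.mem_centralizer_singleton_iff.1 hx.1
    have hxx : x * x = 1 := by
      rcases centralizer_orders h hto hxt with e | e | e | e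
      · rw [orderOf_eq_one_iff.1 e, one_mul]
      · rw [← pow_two, ← e]; exact pow_orderOf_eq_one x
      · exact absurd hx.2 (hnoM x e hxt.symm)
      · exact absurd (M.pow_mem hx.2 2) (hnoM _ (pow_parts h e).2.1 (hxt.symm.pow_right 2))
    have hP : IsPGroup 2 ((S : Subgroup G) ⊔ Subgroup.zpowers x : Subgroup G) := by
      refine S.2.to_sup_of_normal_left' ?_ (Subgroup.zpowers_le.2 hx.2)
      exact fun z => ⟨1, Subtype.ext (by
        obtain ⟨m, hm⟩ := Subgroup.mem_zpowers_iff.1 z.2
        show (z : G) ^ (2 ^ 1) = 1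
        rw [← hm, pow_one, pow_two, ← (Commute.refl x).mul_zpow, hxx, one_zpow])⟩
    exact (S.3 hP le_sup_left).le (Subgroup.mem_sup_right (Subgroup.mem_zpowers x))
  -- `C(t₀) = W S`
  have hWS : (S' : Subgroup K) ⊔ W = ⊤ := by
    set N := (S' : Subgroup K) ⊔ W with hNdef
    have hfr := Sylow.normalizer_sup_eq_top' S' (N := N) le_sup_left
    rw [← top_le_iff, ← hfr]
    refine sup_le (fun x hx => Subgroup.mem_sup_left ?_) le_rfl
    rw [hS'e]
    refine Subgroup.mem_subgroupOf.2 (hinf ▸ ⟨x.2, ?_⟩)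
    refine FiveOrders.mem_normalizer_of_conj fun s hs => ?_
    have := (Subgroup.mem_normalizer_iff.1 hx ⟨s, hSK hs⟩).1 (hS'e.symm ▸ Subgroup.mem_subgroupOf.2 hs)
    exact Subgroup.mem_subgroupOf.1 (hS'e ▸ this)
  set w := Nat.card W with hw
  have hcardK : Nat.card K = Nat.card S * w := by
    have hdisj : (S' : Subgroup K) ⊓ W = ⊥ := by
      refine (Subgroup.eq_bot_iff_forall _).2 fun x hx => ?_
      have h1 : x * x = 1 := Subtype.ext (hsq _ (Subgroup.mem_subgroupOf.1 (hS'e ▸ hx.1)))
      have h2 : Odd (orderOf x) := Odd.of_dvd_nat hWodd (Subgroup.orderOf_dvd_natCard W hx.2)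
      obtain ⟨m, hm⟩ := h2
      have h3 := pow_orderOf_eq_one x
      rwa [hm, pow_succ, pow_mul, pow_two, h1, one_pow, one_mul] at h3
    have := Cores.card_sup_mul_card_inf (S' : Subgroup K) W
    rw [hWS, hdisj, Subgroup.card_bot, mul_one, Subgroup.card_top] at this
    rw [this, hw, hS'e, Nat.card_congr (Subgroup.subgroupOfEquivOfLe hSK).toEquiv]
  have hqW : ∀ y : K, orderOf (y : G) = q → y ∈ W := by
    intro y hy
    have hmem : y ∈ W ⊔ (S' : Subgroup K) := by rw [sup_comm, hWS]; exact Subgroup.mem_top y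
    rw [← SetLike.mem_coe, Subgroup.normal_mul] at hmem
    obtain ⟨w', hw', s, hs, he⟩ := hmem
    have hss : s * s = 1 := Subtype.ext (hsq _ (Subgroup.mem_subgroupOf.1 (hS'e ▸ hs)))
    have h1 : ((y : K) : K ⧸ W) = (s : K ⧸ W) := by
      rw [← he, QuotientGroup.mk_mul, (QuotientGroup.eq_one_iff w').2 hw', one_mul]
    rw [← QuotientGroup.eq_one_iff]
    have h2 : ((y : K) : K ⧸ W) ^ 2 = 1 := by
      rw [h1, ← QuotientGroup.mk_pow, pow_two, hss]; rfl
    have h3 : ((y : K) : K ⧸ W) ^ q = 1 := by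
      rw [← QuotientGroup.mk_pow, show y ^ q = 1 from Subtype.ext (by
        rw [Subgroup.coe_pow, ← hy]; exact pow_orderOf_eq_one _)]; rfl
    obtain ⟨k, hk⟩ := odd_q h
    rwa [hk, pow_succ, pow_mul, h2, one_pow, one_mul] at h3
  have hcard1 : numQ q t₀ + 1 ≤ w := by
    rw [numQ, ← Finite.card_option]
    refine Nat.card_le_card_of_injective (fun o : Option {y : G // orderOf y = q ∧ Commute t₀ y} =>
      (o.elim 1 fun y => ⟨⟨y.1, Subgroup.mem_centralizer_singleton_iff.2 y.2.2.symm.eq⟩, hqW _ y.2.1⟩ : W)) ?_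
    rintro (_ | y) (_ | y') e
    · rfl
    · exfalso
      have : y'.1 = 1 := (congrArg (fun x : W => ((x : K) : G)) e).symm
      exact h.hq.ne_one (y'.2.1.symm.trans (orderOf_eq_one_iff.2 this))
    · exfalso
      have : y.1 = 1 := congrArg (fun x : W => ((x : K) : G)) e
      exact h.hq.ne_one (y.2.1.symm.trans (orderOf_eq_one_iff.2 this))
    · exact congrArg some (Subtype.ext (congrArg (fun x : W => ((x : K) : G)) e))
  refine small_false h hns S h4 w (fun s hs hs1 => ?_) (fun s hs hs1 => ?_) (fun s hs hs1 => ?_) hy₁ B₁ hB₁S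
    hB₁card hB₁y
  · rw [← card_centralizer_eq h (hto.trans (orderOf_of_mem h S hs hs1).symm), ← hK, hcardK]
  · obtain ⟨f, hf, hfS⟩ := exists_aut h S ht₀ ht₀1 hs hs1
    rw [hDS, ← hf, ← map_centralizer, ← hK]
    have hMf : M.map f.toMonoidHom = M := by rw [hM, map_normalizer, hfS]
    rw [← hM]
    conv_lhs => rw [← hMf]
    rw [← Subgroup.map_inf _ _ _ f.injective, hinf, hfS]
  · obtain ⟨f, hf, -⟩ := exists_aut h S ht₀ ht₀1 hs hs1
    rw [← hf, numQ_map]
    exact hcard1

end Cfsg.Agent.GroupStructure3.FiveOrbits.TwoQ
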