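import Cfsg.Agent.GroupStructure3.FiveOrbits.Count
import Cfsg.Agent.S3371

/-!
# Tools: Frobenius groups and half-transitive groups on elementary abelian 2-groups
-/

set_option autoImplicit false

namespace Cfsg.Agent.GroupStructure3.FiveOrbits.TwoQ

universe u v

/-- A Frobenius group whose complement is fixed-point-free on an elementary abelian 2-group has
its kernel acting trivially. -/
theorem fixed_of_frobenius {M : Type u} [Group M] [Finite M] {W : Type v} [CommGroup W] [Finite W]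
    (ψ : M →* MulAut W) (R : Subgroup M) (b : M) {p : ℕ} [Fact p.Prime] (hb : b ^ p = 1)
    (hbR : ∀ r ∈ R, b * r * b⁻¹ ∈ R) (hfpf : ∀ r ∈ R, b * r = r * b → r = 1)
    (hodd : Odd (Nat.card R)) (hsq : ∀ w : W, w * w = 1) (hfix : ∀ w, ψ b w = w → w = 1) :
    ∀ r ∈ R, ∀ w, ψ r w = w := by
  classical
  intro r₀ hr₀ w
  have := Fintype.ofFinite ↥R
  have hp := (Fact.out : p.Prime)
  have hN : ∀ v, ∏ i ∈ Finset.range p, ψ (b ^ i) v = 1 := by
    intro v
    refine hfix _ ?_
    have hh : ∀ i, ψ b (ψ (b ^ i) v) = ψ (b ^ (i + 1)) v := fun i => by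
      rw [← MulAut.mul_apply, ← map_mul, ← pow_succ']
    rw [map_prod]
    simp only [hh]
    have h1 := Finset.prod_range_succ (fun i => ψ (b ^ i) v) p
    rw [Finset.prod_range_succ' (fun i => ψ (b ^ i) v) p, hb] at h1
    simp only [pow_zero, map_one, MulAut.one_apply] at h1
    exact mul_right_cancel h1
  have hbp : ∀ i : ℕ, ∀ r ∈ R, b ^ i * r * (b ^ i)⁻¹ ∈ R := by
    intro i
    induction i with
    | zero => intro r hr; simpa using hr
    | succ i ih =>
      intro r hr
      rw [show b ^ (i + 1) * r * (b ^ (i + 1))⁻¹ = b * (b ^ i * r * (b ^ i)⁻¹) * b⁻¹ by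
        rw [pow_succ' b]; group]
      exact hbR _ (ih r hr)
  have hfixpow : ∀ i ∈ Finset.range p, i ≠ 0 → ∀ r ∈ R, b ^ i * r = r * b ^ i → r = 1 := by
    intro i hi hi0 r hr h
    obtain ⟨k, -, hk⟩ := Nat.exists_mul_mod_eq_one_of_coprime
      ((hp.coprime_iff_not_dvd.mpr fun hd => hi0
        (Nat.eq_zero_of_dvd_of_lt hd (Finset.mem_range.mp hi))).symm) hp.one_lt
    refine hfpf r hr ?_
    have h1 : (b ^ i) ^ k = b := by
      rw [← pow_mul, ← Nat.mod_add_div (i * k) p, hk, pow_add, pow_one, pow_mul, hb, one_pow, mul_one]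
    have h2 : Commute (b ^ i) r := h
    rw [← h1]
    exact (h2.pow_left k).eq
  set n := fun v : W => ∏ r : ↥R, ψ (r : M) v with hn
  have hnfix : ∀ v, ψ r₀ (n v) = n v := by
    intro v
    rw [hn]
    simp only [map_prod]
    refine Fintype.prod_equiv (Equiv.mulLeft (⟨r₀, hr₀⟩ : ↥R)) _ _ fun s => ?_
    simp [map_mul, MulAut.mul_apply]
  have htot : ∏ i ∈ Finset.range p, ∏ r : ↥R, ψ ((r : M) * b ^ i * (r : M)⁻¹) w = 1 := by
    rw [Finset.prod_comm]
    refine Finset.prod_eq_one fun r _ => ?_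
    calc ∏ i ∈ Finset.range p, ψ ((r : M) * b ^ i * (r : M)⁻¹) w
        = ψ (r : M) (∏ i ∈ Finset.range p, ψ (b ^ i) (ψ (r : M)⁻¹ w)) := by
          simp only [map_prod, map_mul, MulAut.mul_apply]
      _ = 1 := by rw [hN, map_one]
  have hterm : ∀ i ∈ Finset.range p, i ≠ 0 →
      ∏ r : ↥R, ψ ((r : M) * b ^ i * (r : M)⁻¹) w = n (ψ (b ^ i) w) := by
    intro i hi hi0
    have hinj : Function.Injective fun r : ↥R =>
        (⟨(r : M) * (b ^ i * (r : M)⁻¹ * (b ^ i)⁻¹), mul_mem r.2 (hbp i _ (inv_mem r.2))⟩ : ↥R) := by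
      intro r s h
      have h1 : (r : M) * (b ^ i * (r : M)⁻¹ * (b ^ i)⁻¹) = (s : M) * (b ^ i * (s : M)⁻¹ * (b ^ i)⁻¹) :=
        congrArg Subtype.val h
      have h2 := hfixpow i hi hi0 _ (mul_mem (inv_mem s.2) r.2) (by
        calc b ^ i * ((s : M)⁻¹ * r) = (s : M)⁻¹ * ((s : M) * (b ^ i * (s : M)⁻¹ * (b ^ i)⁻¹)) * b ^ i * r := by group
          _ = (s : M)⁻¹ * ((r : M) * (b ^ i * (r : M)⁻¹ * (b ^ i)⁻¹)) * b ^ i * r := by rw [h1]
          _ = _ := by group)
      exact Subtype.ext (inv_mul_eq_one.mp h2).symm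
    rw [hn]
    refine Fintype.prod_bijective _ (Finite.injective_iff_bijective.mp hinj) _ _ fun r => ?_
    show ψ ((r : M) * b ^ i * (r : M)⁻¹) w =
      ψ ((r : M) * (b ^ i * (r : M)⁻¹ * (b ^ i)⁻¹)) (ψ (b ^ i) w)
    rw [← MulAut.mul_apply, ← map_mul]
    congr 2
    group
  have hw : w = (∏ i ∈ (Finset.range p).erase 0, n (ψ (b ^ i) w))⁻¹ := by
    rw [← Finset.mul_prod_erase _ _ (Finset.mem_range.mpr hp.pos)] at htot
    simp only [pow_zero, mul_one, mul_inv_cancel, map_one, MulAut.one_apply, Finset.prod_const,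
      Finset.card_univ] at htot
    rw [← Nat.card_eq_fintype_card] at htot
    obtain ⟨j, hj⟩ := hodd
    rw [hj, pow_succ, pow_mul, pow_two, hsq w, one_pow, one_mul,
      Finset.prod_congr rfl (fun i hi => hterm i (Finset.mem_of_mem_erase hi) (Finset.ne_of_mem_erase hi))] at htot
    exact eq_inv_of_mul_eq_one_left htot
  rw [hw, map_inv, map_prod]
  exact congrArg _ (Finset.prod_congr rfl fun i _ => hnfix _)

/-- A group of exponent `q` cannot be half-transitive with non-trivial stabilizers on an elementary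
abelian 2-group. -/
theorem no_half_transitive {M : Type u} [Group M] [Finite M] {q : ℕ} [Fact q.Prime] (hq : q ≠ 2)
    (hM : IsPGroup q M) {W : Type v} [CommGroup W] [Finite W] [Nontrivial W] (hsq : ∀ w : W, w * w = 1)
    (ψ : M →* MulAut W) (hψ : Function.Injective ψ)
    (hhalf : ∀ v w : W, v ≠ 1 → w ≠ 1 → Nat.card {u : W | ∃ g, ψ g v = u} = Nat.card {u : W | ∃ g, ψ g w = u})
    (hstab : ∃ w : W, w ≠ 1 ∧ ∃ g : M, g ≠ 1 ∧ ψ g w = w) : False := by
  letI : Module (ZMod 2) (Additive W) := AddCommGroup.zmodModule (n := 2) fun x => by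
    rw [two_nsmul]; exact congrArg Additive.ofMul (hsq x.toMul)
  haveI : Finite (Additive W) := ‹Finite W›
  let ρ : M →* (Additive W ≃ₗ[ZMod 2] Additive W) :=
    { toFun := fun g => (MulEquiv.toAdditive (ψ g)).toLinearEquiv fun c x =>
        ZMod.map_smul (MulEquiv.toAdditive (ψ g)).toAddMonoidHom c x
      map_one' := by ext x; show Additive.ofMul (ψ 1 x.toMul) = x; rw [map_one]; rfl
      map_mul' := fun g k => by
        ext x
        show Additive.ofMul (ψ (g * k) x.toMul) = Additive.ofMul (ψ g (ψ k x.toMul))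
        rw [map_mul]; rfl }
  have hρ : Function.Injective ρ := fun g k e => hψ (MulEquiv.ext fun x =>
    Additive.ofMul.injective (LinearEquiv.congr_fun e (Additive.ofMul x)))
  obtain ⟨w, hw, g, hg, hgw⟩ := hstab
  have hset : ∀ v : Additive W, Nat.card {u : Additive W | ∃ g : M, ρ g v = u} =
      Nat.card {u : W | ∃ g, ψ g v.toMul = u} := fun v =>
    Nat.card_congr (Additive.toMul.subtypeEquiv fun u => exists_congr fun g =>
      ⟨fun e => congrArg Additive.toMul e, fun e => Additive.toMul.injective e⟩)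
  rcases S3371.result 2 q hM ρ hρ (fun a c ha hc => by
      rw [hset, hset]; exact hhalf _ _ (fun e => ha (congrArg Additive.ofMul e))
        (fun e => hc (congrArg Additive.ofMul e))) with
    ⟨-, h⟩ | ⟨-, m, hm, -⟩ | ⟨h4, -⟩ | ⟨-, h, -⟩
  · exact hg (h (Additive.ofMul w) (fun e => hw (congrArg Additive.toMul e)) g (congrArg Additive.ofMul hgw))
  · rcases m with _ | _ | m
    · norm_num at hm
    · norm_num at hm
    · have : 4 ≤ 2 ^ (m + 2) := le_trans (by norm_num) (Nat.pow_le_pow_right two_pos (Nat.le_add_left 2 m))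
      omega
  · -- `W` is a four-group
    classical
    haveI := Fintype.ofFinite W
    have hW4 : Fintype.card W = 4 := by
      rw [← Nat.card_eq_fintype_card]; exact (Nat.card_congr Additive.ofMul).trans (h4.trans (by norm_num))
    have hgg : g * g = 1 := by
      refine hψ (MulEquiv.ext fun u => ?_)
      rw [map_mul, map_one, MulAut.mul_apply, MulAut.one_apply]
      by_contra hne
      have hd : ∀ {a b : W}, a ≠ b → ψ g a ≠ ψ g b := fun hab e => hab ((ψ g).injective e)
      have h1 : u ≠ ψ g u := fun e => hne (by rw [← e, ← e])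
      have h2 : u ≠ 1 := fun e => h1 (by rw [e, map_one])
      have h3 : u ≠ w := fun e => h1 (by rw [e, hgw])
      have hsub : ({1, w, u, ψ g u, ψ g (ψ g u)} : Finset W).card ≤ 4 := hW4 ▸ Finset.card_le_univ _
      rw [Finset.card_insert_of_notMem, Finset.card_insert_of_notMem, Finset.card_insert_of_notMem,
        Finset.card_pair (hd h1)] at hsub
      · omega
      · simp only [Finset.mem_insert, Finset.mem_singleton, not_or]
        exact ⟨h1, fun e => hne e.symm⟩
      · simp only [Finset.mem_insert, Finset.mem_singleton, not_or]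
        refine ⟨h3.symm, fun e => h3 ((ψ g).injective (e.symm.trans hgw.symm)),
          fun e => h3 ((ψ g).injective ((ψ g).injective (e.symm.trans (by rw [hgw, hgw]))))⟩
      · simp only [Finset.mem_insert, Finset.mem_singleton, not_or]
        refine ⟨fun e => hw e.symm, fun e => h2 e.symm, fun e => ?_, fun e => ?_⟩
        · exact hd h2 (by rw [← e, map_one])
        · exact hd (hd h2) (by rw [← e, map_one, map_one])
    have hgo : orderOf g = 2 := orderOf_eq_prime (by rw [pow_two, hgg]) hg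
    obtain ⟨k, hk⟩ := hM.exists_card_eq
    exact hq ((Nat.prime_dvd_prime_iff_eq Nat.prime_two Fact.out).1
      (Nat.prime_two.dvd_of_dvd_pow (hk ▸ hgo ▸ orderOf_dvd_natCard g))).symm
  · norm_num at h

/-- A subgroup whose conjugates cover the group is the whole group. -/
theorem eq_top_of_cover {K : Type u} [Group K] [Finite K] (C : Subgroup K)
    (h : ∀ k : K, ∃ a : K, a⁻¹ * k * a ∈ C) : C = ⊤ := by
  classical
  have key : ∀ k : {k : K // k ≠ 1}, ∃ x : K ⧸ C, x.out⁻¹ * k.1 * x.out ∈ C := by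
    rintro ⟨k, -⟩
    obtain ⟨a, ha⟩ := h k
    refine ⟨QuotientGroup.mk a, ?_⟩
    obtain ⟨c, hc⟩ := QuotientGroup.mk_out_eq_mul C a
    rw [hc]
    have := C.mul_mem (C.mul_mem (C.inv_mem c.2) ha) c.2
    simpa [mul_assoc] using this
  choose x hx using key
  let f : {k : K // k ≠ 1} → (K ⧸ C) × {c : C // c ≠ 1} := fun k =>
    (x k, ⟨⟨_, hx k⟩, fun e => k.2 (by
      have h1 : (x k).out⁻¹ * k.1 * (x k).out = 1 := congrArg Subtype.val e
      have h2 := congrArg (fun y => (x k).out * y * (x k).out⁻¹) h1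
      simpa [mul_assoc] using h2)⟩)
  have hf : Function.Injective f := by
    intro k l e
    have e1 : x k = x l := congrArg Prod.fst e
    have e2 : (x k).out⁻¹ * k.1 * (x k).out = (x l).out⁻¹ * l.1 * (x l).out :=
      congrArg (fun y : (K ⧸ C) × {c : C // c ≠ 1} => (y.2.1 : K)) e
    rw [e1] at e2
    exact Subtype.ext (mul_left_cancel (mul_right_cancel e2))
  have h1 := Nat.card_le_card_of_injective f hf
  rw [Nat.card_prod, ← Subgroup.index_eq_card] at h1
  have ek : ∀ (L : Type u) [Group L] [Finite L], Nat.card {k : L // k ≠ 1} + 1 = Nat.card L := by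
    intro L _ _
    have := Set.ncard_sdiff_singleton_add_one (Set.mem_univ (1 : L)) (Set.toFinite _)
    rw [Set.ncard_univ] at this
    convert this using 2
    rw [← Nat.card_coe_set_eq]
    exact Nat.card_congr (Equiv.subtypeEquivRight fun k => by simp)
  have h2 := ek K
  have h3 := ek C
  have h4 := C.card_mul_index
  have h5 : C.index ≠ 0 := Subgroup.index_ne_zero_of_finite
  refine Subgroup.index_eq_one.1 ?_
  nlinarith

/-- Counting the conjugates of the powers of an element by elements of a subgroup. -/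
theorem card_le_of_conj {G : Type u} [Group G] [Finite G] (H : Subgroup G) {y : G} {q : ℕ} (hq : 2 ≤ q)
    (A : Set G) (hA : ∀ a ∈ A, ∃ g ∈ H, ∃ j : ℕ, 1 ≤ j ∧ j < q ∧ a = g * y ^ j * g⁻¹) :
    Nat.card A * Nat.card ↥(H ⊓ Subgroup.centralizer ({y} : Set G)) ≤ (q - 1) * Nat.card H := by
  choose g hg j hj1 hjq hja using hA
  rw [← Nat.card_prod, show q - 1 = Nat.card (Fin (q - 1)) from (Nat.card_fin _).symm, ← Nat.card_prod]
  refine Nat.card_le_card_of_injective (fun x : A × ↥(H ⊓ Subgroup.centralizer ({y} : Set G)) =>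
    ((⟨j x.1 x.1.2 - 1, by have := hjq x.1 x.1.2; have := hj1 x.1 x.1.2; omega⟩ : Fin (q - 1)),
      (⟨g x.1 x.1.2 * x.2, H.mul_mem (hg _ _) x.2.2.1⟩ : H))) ?_
  rintro ⟨⟨a, ha⟩, c⟩ ⟨⟨b, hb⟩, d⟩ e
  obtain ⟨e1, e2⟩ := Prod.ext_iff.1 e
  have e1' : j a ha = j b hb := by
    have := congrArg Fin.val e1
    simp only at this
    have := hj1 a ha; have := hj1 b hb; omega
  have e2' : g a ha * (c : G) = g b hb * d := congrArg Subtype.val e2
  have hc : ∀ (c : ↥(H ⊓ Subgroup.centralizer ({y} : Set G))) (i : ℕ), (c : G) * y ^ i * (c : G)⁻¹ = y ^ i := by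
    intro c i
    have h := (show Commute (c : G) y from Subgroup.mem_centralizer_singleton_iff.1 c.2.2)
    rw [(h.pow_right i).eq, mul_inv_cancel_right]
  have hab : a = b := by
    rw [hja a ha, hja b hb, e1']
    calc g a ha * y ^ j b hb * (g a ha)⁻¹ = g a ha * ((c : G) * y ^ j b hb * (c : G)⁻¹) * (g a ha)⁻¹ := by rw [hc]
      _ = (g a ha * c) * y ^ j b hb * (g a ha * c)⁻¹ := by group
      _ = (g b hb * d) * y ^ j b hb * (g b hb * d)⁻¹ := by rw [e2']
      _ = g b hb * ((d : G) * y ^ j b hb * (d : G)⁻¹) * (g b hb)⁻¹ := by group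
      _ = _ := by rw [hc]
  subst hab
  exact Prod.ext rfl (Subtype.ext (mul_left_cancel e2'))

end Cfsg.Agent.GroupStructure3.FiveOrbits.TwoQ
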